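import Cfsg.Agent.Lib.OneNonzero.PGroup
import Cfsg.Agent.Lib.Characters.Complete
import Cfsg.Agent.Lib.Characters.Kernel
import Cfsg.Agent.S0033
import Cfsg.Agent.S4456
import Cfsg.Agent.S4558
import Cfsg.Agent.Lib.OddOrder.FeitThompson

/-!
# One conjugacy class outside a normal subgroup of the derived group

`K ≤ D = [G, G]` is normal, `D \ K` is the conjugacy class of `g`, and the centre of `G/K` lies in
`D/K`.  Then `G` is solvable.  The group `D/K` is an elementary abelian `r`-group and the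
centralizer of `g` is an `r`-group, of the order of the centralizer of `gR` for every normal
`R ≤ K`.  So if such an `R` is perfect, its order is prime to `r`; it is solvable by Feit–Thompson
when `r = 2`, and by Thompson's theorem otherwise, since then `g` has order `r`.
-/

set_option autoImplicit false
set_option linter.unusedSectionVars false
set_option linter.style.haveILetI false

namespace Cfsg.Agent.Lib.OneNonzero.Setting

open Subgroup
open scoped commutatorElement
open Cfsg.Agent.Lib.Characters.Basic Cfsg.Agent.Lib.Characters.Complete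
open Cfsg.Agent.Lib.Characters.Kernel
open scoped ComplexConjugate

universe u

variable {G : Type u} [Group G] [Finite G]

theorem isConj_mk {N : Subgroup G} [N.Normal] {g x : G} (h : IsConj g x) :
    IsConj (g : G ⧸ N) (x : G ⧸ N) :=
  (QuotientGroup.mk' N).map_isConj h

/-- If a coset lies in the class of `g`, the centralizers of `g` and of the coset have the same
order. -/
theorem card_centralizer_quotient (N : Subgroup G) [N.Normal] (g : G)
    (h : ∀ n ∈ N, IsConj g (g * n)) :
    Nat.card (centralizer ({(g : G ⧸ N)} : Set (G ⧸ N))) =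
      Nat.card (centralizer ({g} : Set G)) := by
  have hiff : ∀ x : G, IsConj g x ↔ IsConj (g : G ⧸ N) (x : G ⧸ N) := by
    refine fun x => ⟨isConj_mk, fun hx => ?_⟩
    obtain ⟨c, hc⟩ := isConj_iff.mp hx
    obtain ⟨c, rfl⟩ := QuotientGroup.mk_surjective c
    have hm : g⁻¹ * (c⁻¹ * x * c) ∈ N := by
      rw [← QuotientGroup.eq]
      simp only [QuotientGroup.mk_mul, QuotientGroup.mk_inv]
      rw [← hc]
      group
    refine (h _ hm).trans (isConj_iff.mpr ⟨c, ?_⟩)
    group
  have h1 : Nat.card {x : G // IsConj g x} =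
      Nat.card N * Nat.card {y : G ⧸ N // IsConj (g : G ⧸ N) y} := by
    rw [Nat.card_congr (Equiv.subtypeEquivRight hiff), ← Nat.card_prod]
    exact Nat.card_congr
      (QuotientGroup.preimageMkEquivSubgroupProdSet N {y | IsConj (g : G ⧸ N) y})
  have h2 := card_conjugates_mul_centralizer g
  have h3 := card_conjugates_mul_centralizer (g : G ⧸ N)
  rw [h1, Subgroup.card_eq_card_quotient_mul_card_subgroup N, mul_comm (Nat.card (G ⧸ N)) (Nat.card N),
    mul_assoc, ← h3] at h2
  have h4 := Nat.eq_of_mul_eq_mul_left Nat.card_pos h2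
  haveI : Nonempty {y : G ⧸ N // IsConj (g : G ⧸ N) y} := ⟨⟨_, IsConj.refl _⟩⟩
  exact (Nat.eq_of_mul_eq_mul_left Nat.card_pos h4).symm

/-- The hypotheses. -/
structure Setting (K : Subgroup G) (g : G) : Prop where
  normal : K.Normal
  le : K ≤ commutator G
  mem : g ∈ commutator G
  not_mem : g ∉ K
  class_eq : ∀ x : G, IsConj g x ↔ x ∈ commutator G ∧ x ∉ K
  center_le : ∀ z : G, (∀ u : G, ⁅z, u⁆ ∈ K) → z ∈ commutator G

variable {K : Subgroup G} [K.Normal] {g : G}

namespace Setting

theorem move (hS : Setting K g) {g' : G} (h1 : g' ∈ commutator G) (h2 : g' ∉ K) :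
    Setting K g' :=
  ⟨hS.normal, hS.le, h1, h2,
    fun x => ⟨fun h => (hS.class_eq x).mp (((hS.class_eq g').mpr ⟨h1, h2⟩).trans h),
      fun h => ((hS.class_eq g').mpr ⟨h1, h2⟩).symm.trans ((hS.class_eq x).mpr h)⟩,
    hS.center_le⟩

theorem coset (hS : Setting K g) {R : Subgroup G} (hR : R ≤ K) :
    ∀ n ∈ R, IsConj g (g * n) := fun n hn =>
  (hS.class_eq _).mpr ⟨mul_mem hS.mem (hS.le (hR hn)), fun h =>
    hS.not_mem (by simpa using mul_mem h (inv_mem (hR hn)))⟩

theorem exists_prime (hS : Setting K g) : ∃ r : ℕ, r.Prime ∧ g ^ r ∈ K := by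
  have hne : (g : G ⧸ K) ≠ 1 := fun h => hS.not_mem ((QuotientGroup.eq_one_iff g).mp h)
  obtain ⟨r, hr, hdvd⟩ := Nat.exists_prime_and_dvd (fun h => hne (orderOf_eq_one_iff.mp h))
  refine ⟨r, hr, ?_⟩
  by_contra hmem
  obtain ⟨c, hc⟩ := isConj_iff.mp
    (isConj_mk (N := K) ((hS.class_eq _).mpr ⟨pow_mem hS.mem r, hmem⟩))
  have h1 : orderOf ((g : G ⧸ K) ^ r) = orderOf (g : G ⧸ K) := by
    rw [← QuotientGroup.mk_pow, ← hc]
    exact MulEquiv.orderOf_eq (MulAut.conj c) _
  rw [orderOf_pow' _ hr.ne_zero, Nat.gcd_eq_right hdvd] at h1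
  exact absurd h1 (Nat.div_lt_self (orderOf_pos _) hr.one_lt).ne

variable {r : ℕ} [hr : Fact r.Prime]

theorem pow_mem_of_mem (hS : Setting K g) (hg : g ^ r ∈ K) {a : G}
    (ha : a ∈ commutator G) : a ^ r ∈ K := by
  by_cases h : a ∈ K
  · exact pow_mem h r
  obtain ⟨c, rfl⟩ := isConj_iff.mp ((hS.class_eq a).mpr ⟨ha, h⟩)
  rw [conj_pow]
  exact ‹K.Normal›.conj_mem _ hg c

theorem comm_mem (hS : Setting K g) (hg : g ^ r ∈ K) {a b : G} (ha : a ∈ commutator G)
    (hb : b ∈ commutator G) : ⁅a, b⁆ ∈ K := by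
  set π := QuotientGroup.mk' K
  set Q : Subgroup (G ⧸ K) := (commutator G).map π
  have hQ : IsPGroup r Q := by
    rintro ⟨_, x, hx, rfl⟩
    refine ⟨1, Subtype.ext ?_⟩
    show π x ^ (r ^ 1) = 1
    rw [pow_one, ← map_pow]
    exact (QuotientGroup.eq_one_iff _).mpr (hS.pow_mem_of_mem hg hx)
  haveI : Nontrivial Q := by
    refine ⟨⟨π g, mem_map_of_mem _ hS.mem⟩, 1, fun h => hS.not_mem ?_⟩
    exact (QuotientGroup.eq_one_iff g).mp (congrArg Subtype.val h)
  obtain ⟨⟨⟨_, a₀, ha₀, rfl⟩, hz⟩, hz1⟩ :=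
    @exists_ne _ hQ.center_nontrivial (1 : center Q)
  have hz' : a₀ ∉ K := fun h => hz1 (Subtype.ext (Subtype.ext ((QuotientGroup.eq_one_iff _).mpr h)))
  rw [← QuotientGroup.eq_one_iff, ← QuotientGroup.mk'_apply, map_commutatorElement,
    commutatorElement_eq_one_iff_commute]
  by_cases hak : a ∈ K
  · rw [show π a = 1 from (QuotientGroup.eq_one_iff a).mpr hak]
    exact Commute.one_left _
  obtain ⟨c, rfl⟩ := isConj_iff.mp
    (((hS.class_eq a₀).mpr ⟨ha₀, hz'⟩).symm.trans ((hS.class_eq a).mpr ⟨ha, hak⟩))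
  have hb' : c⁻¹ * b * c ∈ commutator G := by
    simpa using (inferInstance : (commutator G).Normal).conj_mem _ hb c⁻¹
  have h1 : Commute (π a₀) (π (c⁻¹ * b * c)) := by
    have := mem_center_iff.mp hz ⟨π (c⁻¹ * b * c), mem_map_of_mem _ hb'⟩
    exact (congrArg Subtype.val this).symm
  have h2 := h1.map (MulAut.conj (π c)).toMonoidHom
  simpa [MulAut.conj_apply, mul_assoc, π] using h2

/-- What centralizes `g` modulo `K` centralizes the derived group modulo `K`. -/
theorem fix (hS : Setting K g) (hg : g ^ r ∈ K) {x : G} (hx : ⁅x, g⁆ ∈ K) {a : G}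
    (ha : a ∈ commutator G) : ⁅x, a⁆ ∈ K := by
  set π := QuotientGroup.mk' K
  have iff : ∀ p q : G, ⁅p, q⁆ ∈ K ↔ Commute (π p) (π q) := fun p q => by
    rw [← QuotientGroup.eq_one_iff, ← QuotientGroup.mk'_apply, map_commutatorElement,
      commutatorElement_eq_one_iff_commute]
  rw [iff] at hx ⊢
  by_cases hak : a ∈ K
  · rw [show π a = 1 from (QuotientGroup.eq_one_iff a).mpr hak]
    exact Commute.one_right _
  obtain ⟨h, rfl⟩ := isConj_iff.mp ((hS.class_eq a).mpr ⟨ha, hak⟩)
  have hd : ⁅h⁻¹, x⁆ ∈ commutator G := commutator_mem_commutator (mem_top _) (mem_top _)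
  have h1 : Commute (π ⁅h⁻¹, x⁆) (π g) := (iff _ _).mp (hS.comm_mem hg hd hS.mem)
  have h2 : Commute (π (h⁻¹ * x * h)) (π g) := by
    rw [show h⁻¹ * x * h = ⁅h⁻¹, x⁆ * x by simp only [commutatorElement_def]; group, map_mul]
    exact h1.mul_left hx
  have h3 := h2.map (MulAut.conj (π h)).toMonoidHom
  simpa [MulAut.conj_apply, mul_assoc] using h3

theorem exists_card_quotient (hS : Setting K g) (hg : g ^ r ∈ K) :
    ∃ n : ℕ, Nat.card (centralizer ({(g : G ⧸ K)} : Set (G ⧸ K))) = r ^ n := by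
  set π := QuotientGroup.mk' K
  refine ⟨_, Nat.eq_prime_pow_of_unique_prime_dvd Nat.card_pos.ne' fun {s} hs hd => ?_⟩
  haveI := Fact.mk hs
  obtain ⟨⟨x, hxC⟩, hxo⟩ := exists_prime_orderOf_dvd_card' s hd
  rw [orderOf_mk] at hxo
  obtain ⟨x, rfl⟩ := QuotientGroup.mk'_surjective K x
  by_contra hsr
  have hxg : ⁅x, g⁆ ∈ K := by
    rw [← QuotientGroup.eq_one_iff, ← QuotientGroup.mk'_apply, map_commutatorElement,
      commutatorElement_eq_one_iff_commute]
    exact mem_centralizer_singleton_iff.mp hxC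
  have hxs : π x ^ s = 1 := hxo ▸ pow_orderOf_eq_one _
  have hzero : x ∈ commutator G := by
    refine hS.center_le x fun u => ?_
    set w := ⁅u, x⁆ with hw
    have hwD : w ∈ commutator G := commutator_mem_commutator (mem_top u) (mem_top x)
    have hc : Commute (π x) (π w) := by
      rw [← commutatorElement_eq_one_iff_commute, ← map_commutatorElement]
      exact (QuotientGroup.eq_one_iff _).mpr (hS.fix hg hxg hwD)
    have e : π w * π x = π u * π x * (π u)⁻¹ := by
      rw [← map_mul, ← map_inv, ← map_mul, ← map_mul, hw, commutatorElement_def]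
      group
    have h1 : π w ^ s = 1 := by
      have : (π w * π x) ^ s = 1 := by rw [e, conj_pow, hxs, mul_one, mul_inv_cancel]
      rwa [hc.symm.mul_pow, hxs, mul_one] at this
    have h2 : π w ^ r = 1 := by
      rw [← map_pow]
      exact (QuotientGroup.eq_one_iff _).mpr (hS.pow_mem_of_mem hg hwD)
    have h3 : π w = 1 := by
      have := pow_gcd_eq_one.mpr ⟨h1, h2⟩
      rwa [(Nat.coprime_primes hs hr.out).mpr hsr, pow_one] at this
    rw [← commutatorElement_inv]
    exact inv_mem ((QuotientGroup.eq_one_iff _).mp h3)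
  have h4 : π x ^ r = 1 := by
    rw [← map_pow]
    exact (QuotientGroup.eq_one_iff _).mpr (hS.pow_mem_of_mem hg hzero)
  have h5 := orderOf_dvd_of_pow_eq_one h4
  rw [hxo] at h5
  exact hsr ((Nat.prime_dvd_prime_iff_eq hs hr.out).mp h5)

theorem exists_card (hS : Setting K g) (hg : g ^ r ∈ K) :
    ∃ n : ℕ, Nat.card (centralizer ({g} : Set G)) = r ^ n := by
  rw [← card_centralizer_quotient K g (hS.coset le_rfl)]
  exact hS.exists_card_quotient hg

theorem exists_order (hS : Setting K g) (hg : g ^ r ∈ K) : ∃ n : ℕ, orderOf g = r ^ n := by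
  obtain ⟨n, hn⟩ := hS.exists_card hg
  have h : orderOf g ∣ r ^ n := by
    rw [← hn, ← orderOf_mk g (mem_centralizer_singleton_iff.mpr rfl)]
    exact orderOf_dvd_natCard _
  obtain ⟨m, -, hm⟩ := (Nat.dvd_prime_pow hr.out).mp h
  exact ⟨m, hm⟩

section odd

theorem exists_inverting (hS : Setting K g) (hg : g ^ r ∈ K) :
    ∃ y : G, ∀ a ∈ commutator G, y * a * y⁻¹ * a ∈ K := by
  have hgi : g⁻¹ ∈ commutator G ∧ g⁻¹ ∉ K :=
    ⟨inv_mem hS.mem, fun h => hS.not_mem (inv_mem_iff.mp h)⟩
  obtain ⟨y, hy⟩ := isConj_iff.mp ((hS.class_eq g⁻¹).mpr hgi)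
  refine ⟨y, fun a ha => ?_⟩
  set π := QuotientGroup.mk' K
  rw [← QuotientGroup.eq_one_iff, ← QuotientGroup.mk'_apply, map_mul]
  by_cases hak : a ∈ K
  · rw [map_mul, map_mul, show π a = 1 from (QuotientGroup.eq_one_iff a).mpr hak, map_inv]
    group
  obtain ⟨h, rfl⟩ := isConj_iff.mp ((hS.class_eq a).mpr ⟨ha, hak⟩)
  have hd : ⁅y, h⁆ ∈ commutator G := commutator_mem_commutator (mem_top y) (mem_top h)
  have e : y * (h * g * h⁻¹) * y⁻¹ = ⁅y, h⁆ * (h * g⁻¹ * h⁻¹) * ⁅y, h⁆⁻¹ := by
    rw [← hy]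
    simp only [commutatorElement_def]
    group
  have hc : Commute (π ⁅y, h⁆) (π (h * g⁻¹ * h⁻¹)) := by
    rw [← commutatorElement_eq_one_iff_commute, ← map_commutatorElement]
    exact (QuotientGroup.eq_one_iff _).mpr
      (hS.comm_mem hg hd ((inferInstance : (commutator G).Normal).conj_mem _ hgi.1 h))
  rw [e, map_mul, map_mul, map_inv, hc.eq, mul_inv_cancel_right, ← map_mul,
    show h * g⁻¹ * h⁻¹ * (h * g * h⁻¹) = 1 by group, map_one]

variable (hr2 : r ≠ 2)
include hr2

/-- Only the derived group centralizes `g` modulo `K`. -/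
theorem mem_of_fix (hS : Setting K g) (hg : g ^ r ∈ K) {x : G} (hx : ⁅x, g⁆ ∈ K) :
    x ∈ commutator G := by
  obtain ⟨y, hy⟩ := hS.exists_inverting hg
  set π := QuotientGroup.mk' K
  have iff : ∀ p q : G, ⁅p, q⁆ ∈ K ↔ Commute (π p) (π q) := fun p q => by
    rw [← QuotientGroup.eq_one_iff, ← QuotientGroup.mk'_apply, map_commutatorElement,
      commutatorElement_eq_one_iff_commute]
  have hyi : ∀ a ∈ commutator G, π y * π a * (π y)⁻¹ = (π a)⁻¹ := fun a ha => by
    rw [← map_inv, ← map_mul, ← map_mul, eq_inv_iff_mul_eq_one, ← map_mul]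
    exact (QuotientGroup.eq_one_iff _).mpr (hy a ha)
  obtain ⟨k, hk⟩ := hr.out.odd_of_ne_two hr2
  set w := ⁅x, y⁆ with hw
  have hwD : w ∈ commutator G := commutator_mem_commutator (mem_top x) (mem_top y)
  set v := w ^ k
  have hvD : v ∈ commutator G := pow_mem hwD k
  set z := x * v with hz
  have hwr : π w ^ r = 1 := by
    rw [← map_pow]
    exact (QuotientGroup.eq_one_iff _).mpr (hS.pow_mem_of_mem hg hwD)
  have hxw : Commute (π x) (π w) := (iff _ _).mp (hS.fix hg hx hwD)
  have hzg : ⁅z, g⁆ ∈ K := by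
    rw [iff, hz, map_mul]
    exact ((iff _ _).mp hx).mul_left ((iff _ _).mp (hS.comm_mem hg hvD hS.mem))
  have hzy : Commute (π z) (π y) := by
    have h1 : π x * π y = π w * (π y * π x) := by
      rw [← map_mul, ← map_mul, ← map_mul, hw, commutatorElement_def]
      group
    have h2 : π v * π y = π y * (π v)⁻¹ := by
      have := hyi v hvD
      calc π v * π y = π y * ((π y)⁻¹ * π v * π y) := by group
        _ = π y * (π v)⁻¹ := by
          congr 1
          rw [eq_comm, inv_eq_iff_eq_inv]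
          calc π v = (π y)⁻¹ * (π y * π v * (π y)⁻¹) * π y := by group
            _ = _ := by rw [this]; group
    show π z * π y = π y * π z
    rw [hz, map_mul, mul_assoc, h2, ← mul_assoc, h1]
    have h3 : Commute (π y * π x) (π v)⁻¹ → True := fun _ => trivial
    have h4 : π w * π y = π y * (π w)⁻¹ := by
      have := hyi w hwD
      calc π w * π y = π y * ((π y)⁻¹ * π w * π y) := by group
        _ = π y * (π w)⁻¹ := by
          congr 1
          rw [eq_comm, inv_eq_iff_eq_inv]
          calc π w = (π y)⁻¹ * (π y * π w * (π y)⁻¹) * π y := by group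
            _ = _ := by rw [this]; group
    rw [← mul_assoc (π w), h4, mul_assoc (π y), mul_assoc (π y)]
    congr 1
    rw [← (hxw.inv_right).eq, mul_assoc]
    congr 1
    rw [show π v = π w ^ k from map_pow π w k, ← mul_inv_rev, inv_eq_iff_mul_eq_one, ← pow_succ,
      ← pow_add, show k + 1 + k = r by omega, hwr]
  -- `z` is central modulo `K`
  have hzD : z ∈ commutator G := by
    refine hS.center_le z fun u => ?_
    set e := ⁅z, u⁆
    have heD : e ∈ commutator G := commutator_mem_commutator (mem_top z) (mem_top u)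
    set d := ⁅y, u⁆
    have hdD : d ∈ commutator G := commutator_mem_commutator (mem_top y) (mem_top u)
    have hzd : Commute (π z) (π d) := (iff _ _).mp (hS.fix hg hzg hdD)
    have hed : Commute (π d) (π e) := (iff _ _).mp (hS.comm_mem hg hdD heD)
    have h1 : π y * π e * (π y)⁻¹ = π e := by
      calc π y * π e * (π y)⁻¹
          = π y * (π z * π u * (π z)⁻¹ * (π u)⁻¹) * (π y)⁻¹ := by
            simp only [e, commutatorElement_def, map_mul, map_inv]
        _ = π z * (π y * π u * (π y)⁻¹) * (π z)⁻¹ * (π y * π u * (π y)⁻¹)⁻¹ := by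
            have e2 : π y * π z = π z * π y := hzy.eq.symm
            have e3 : (π z)⁻¹ * (π y)⁻¹ = (π y)⁻¹ * (π z)⁻¹ := by
              rw [← mul_inv_rev, ← mul_inv_rev, e2]
            calc π y * (π z * π u * (π z)⁻¹ * (π u)⁻¹) * (π y)⁻¹
                = π y * π z * π u * ((π z)⁻¹ * (π y)⁻¹) * (π y * (π u)⁻¹ * (π y)⁻¹) := by group
              _ = _ := by rw [e2, e3]; group
        _ = π z * (π d * π u) * (π z)⁻¹ * (π d * π u)⁻¹ := by
            have : π y * π u * (π y)⁻¹ = π d * π u := by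
              simp only [d, commutatorElement_def, map_mul, map_inv]; group
            rw [this]
        _ = π d * π e * (π d)⁻¹ := by
            simp only [e, commutatorElement_def, map_mul, map_inv]
            rw [← mul_assoc, hzd.eq]
            group
        _ = π e := by rw [hed.eq, mul_inv_cancel_right]
    rw [hyi e heD] at h1
    have h2 : π e ^ 2 = 1 := by
      rw [pow_two]
      nth_rewrite 1 [← h1]
      exact inv_mul_cancel _
    have h3 : π e ^ r = 1 := by
      rw [← map_pow]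
      exact (QuotientGroup.eq_one_iff _).mpr (hS.pow_mem_of_mem hg heD)
    have h4 := pow_gcd_eq_one.mpr ⟨h2, h3⟩
    rw [(Nat.coprime_primes Nat.prime_two hr.out).mpr (Ne.symm hr2), pow_one] at h4
    exact (QuotientGroup.eq_one_iff _).mp h4
  have e : x = z * v⁻¹ := by rw [hz, mul_inv_cancel_right]
  rw [e]
  exact mul_mem hzD (inv_mem hvD)

/-- A Sylow subgroup of the derived group moves each of its elements outside `K` over a coset. -/
theorem sylow_coset (hS : Setting K g) (hg : g ^ r ∈ K) (P : Sylow r (commutator G))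
    (hgP : g ∈ (P : Subgroup (commutator G)).map (commutator G).subtype) {l : G}
    (hlP : l ∈ (P : Subgroup (commutator G)).map (commutator G).subtype) (hlK : l ∈ K) :
    ∃ s ∈ (P : Subgroup (commutator G)).map (commutator G).subtype,
      s * g * s⁻¹ = g * l := by
  classical
  let S := (P : Subgroup (commutator G)).map (commutator G).subtype
  have hSdef : S = (P : Subgroup (commutator G)).map (commutator G).subtype := rfl
  have hSD : S ≤ (commutator G) := map_subtype_le _
  obtain ⟨n, hn⟩ := hS.exists_card hg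
  have horb : ∀ k ∈ K, ∃ x ∈ (commutator G), x * g * x⁻¹ = g * k := by
    intro k hk
    obtain ⟨x, hx⟩ := isConj_iff.mp (hS.coset le_rfl k hk)
    refine ⟨x, hS.mem_of_fix hr2 hg ?_, hx⟩
    rw [show ⁅x, g⁆ = x * g * x⁻¹ * g⁻¹ from commutatorElement_def x g, hx]
    exact ‹K.Normal›.conj_mem _ hk g
  choose x hxD hx using horb
  -- `|C(g)| |K| ≤ |(commutator G)|`
  set C := centralizer ({g} : Set G)
  have hCD : C ≤ (commutator G) := fun c hc => hS.mem_of_fix hr2 hg (by
    rw [(commutatorElement_eq_one_iff_commute (g₁ := c) (g₂ := g)).mpr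
      (mem_centralizer_singleton_iff.mp hc)]
    exact one_mem K)
  have hDle : Nat.card C * Nat.card K ∣ Nat.card (commutator G) := by
    have hDeq : Nat.card (commutator G) = Nat.card C * Nat.card K := by
      refine ((Nat.card_prod C K).symm.trans (Nat.card_congr (Equiv.ofBijective
        (fun q : C × K => (⟨x q.2.1 q.2.2 * q.1.1, mul_mem (hxD _ _) (hCD q.1.2)⟩ : (commutator G))) ⟨?_, ?_⟩))).symm
      · rintro ⟨c, k⟩ ⟨c', k'⟩ h
        have h' : x k.1 k.2 * c.1 = x k'.1 k'.2 * c'.1 := congrArg Subtype.val h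
        have hk : g * k.1 = g * k'.1 := by
          rw [← hx _ k.2, ← hx _ k'.2]
          have e : ∀ (a : G) (b : C), a * g * a⁻¹ = (a * b.1) * g * (a * b.1)⁻¹ := fun a b => by
            rw [show a * b.1 * g * (a * b.1)⁻¹ = a * (b.1 * g * b.1⁻¹) * a⁻¹ by group,
              mul_inv_eq_of_eq_mul (mem_centralizer_singleton_iff.mp b.2)]
          exact (e _ c).trans ((congrArg (fun t => t * g * t⁻¹) h').trans (e _ c').symm)
        obtain rfl : k = k' := Subtype.ext (mul_left_cancel hk)
        exact Prod.ext (Subtype.ext (mul_left_cancel h')) rfl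
      · rintro ⟨a, ha⟩
        have hk : g⁻¹ * (a * g * a⁻¹) ∈ K := by
          have e : g⁻¹ * (a * g * a⁻¹) = ⁅g⁻¹, a⁆ := by
            simp only [commutatorElement_def]; group
          rw [e]
          exact hS.comm_mem hg (inv_mem hS.mem) ha
        refine ⟨⟨⟨(x _ hk)⁻¹ * a, mem_centralizer_singleton_iff.mpr ?_⟩, ⟨_, hk⟩⟩,
          Subtype.ext (mul_inv_cancel_left (x _ hk) a)⟩
        have h1 := hx _ hk
        rw [mul_inv_cancel_left] at h1
        generalize x _ hk = t at h1 ⊢
        calc t⁻¹ * a * g = t⁻¹ * (a * g * a⁻¹) * a := by group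
          _ = g * (t⁻¹ * a) := by rw [← h1]; group
    exact hDeq ▸ dvd_rfl
  set L := S ⊓ K
  have hCcard : Nat.card C * Nat.card L ≤ Nat.card S := by
    have hSP : IsPGroup r S := P.2.map _
    obtain ⟨j, hj⟩ := IsPGroup.iff_card.mp (hSP.to_le (inf_le_left : L ≤ S))
    have h1 : Nat.card C * Nat.card L ∣ Nat.card (commutator G) :=
      (mul_dvd_mul_left _ (Subgroup.card_dvd_of_le inf_le_right)).trans hDle
    rw [hn, hj, ← pow_add] at h1 ⊢
    rw [hSdef, Subgroup.card_subtype, P.card_eq_multiplicity]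
    exact Nat.pow_le_pow_right hr.out.pos
      ((hr.out.pow_dvd_iff_le_factorization Nat.card_pos.ne').mp h1)
  -- count the orbit
  let f : S → L := fun s => ⟨g⁻¹ * (s.1 * g * s.1⁻¹), by
    refine mem_inf.mpr ⟨mul_mem (inv_mem hgP) (mul_mem (mul_mem s.2 hgP) (inv_mem s.2)), ?_⟩
    rw [show g⁻¹ * (s.1 * g * s.1⁻¹) = ⁅g⁻¹, s.1⁆ by simp only [commutatorElement_def]; group]
    exact hS.comm_mem hg (inv_mem hS.mem) (hSD s.2)⟩
  have hf : Function.Surjective f := by
    by_contra hns
    haveI := Fintype.ofFinite S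
    haveI := Fintype.ofFinite L
    have h1 : (Finset.univ.image f).card < Fintype.card L :=
      Finset.card_lt_univ_of_notMem (x := (not_forall.mp hns).choose) (by
        simpa using (not_forall.mp hns).choose_spec)
    have h2 : Fintype.card S ≤ (Finset.univ.image f).card * Nat.card C := by
      rw [← Finset.card_univ, Nat.mul_comm]
      refine Finset.card_le_mul_card_image (f := f) (Finset.univ) _ fun b hb => ?_
      obtain ⟨s₀, -, rfl⟩ := Finset.mem_image.mp hb
      rw [← Fintype.card_subtype, ← Nat.card_eq_fintype_card]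
      refine Nat.card_le_card_of_injective
        (fun s => (⟨s₀.1⁻¹ * s.1.1, mem_centralizer_singleton_iff.mpr ?_⟩ : C)) ?_
      · have h3 : s.1.1 * g * s.1.1⁻¹ = s₀.1 * g * s₀.1⁻¹ :=
          mul_left_cancel (congrArg Subtype.val s.2)
        calc s₀.1⁻¹ * s.1.1 * g = s₀.1⁻¹ * (s.1.1 * g * s.1.1⁻¹) * s.1.1 := by group
          _ = g * (s₀.1⁻¹ * s.1.1) := by rw [h3]; group
      · intro a b h
        exact Subtype.ext (Subtype.ext (mul_left_cancel (congrArg Subtype.val h)))
    rw [← Nat.card_eq_fintype_card] at h1 h2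
    have h4 : (Finset.univ.image f).card * Nat.card C < Nat.card L * Nat.card C :=
      Nat.mul_lt_mul_of_pos_right h1 Nat.card_pos
    rw [mul_comm (Nat.card L)] at h4
    omega
  obtain ⟨s, hs⟩ := hf ⟨l, mem_inf.mpr ⟨hlP, hlK⟩⟩
  refine ⟨s.1, s.2, ?_⟩
  rw [← show g⁻¹ * (s.1 * g * s.1⁻¹) = l from congrArg Subtype.val hs, mul_inv_cancel_left]

theorem pow_eq_one (hS : Setting K g) (hg : g ^ r ∈ K) : g ^ r = 1 := by
  classical
  obtain ⟨j, hj⟩ := hS.exists_order hg
  have hpg : IsPGroup r (zpowers (⟨g, hS.mem⟩ : (commutator G))) := IsPGroup.of_card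
    (n := j) (by rw [Nat.card_zpowers, orderOf_mk, hj])
  obtain ⟨P, hP⟩ := hpg.exists_le_sylow
  let S := (P : Subgroup (commutator G)).map (commutator G).subtype
  have hgS : g ∈ S := ⟨_, hP (mem_zpowers _), rfl⟩
  have hSD : S ≤ (commutator G) := map_subtype_le _
  obtain ⟨y, hy⟩ := hS.exists_inverting hg
  have htop := P.normalizer_sup_eq_top
  have hyt : y ∈ normalizer (S : Set G) ⊔ (commutator G) := htop ▸ mem_top y
  rw [sup_comm, Subgroup.mem_sup_of_normal_left] at hyt
  obtain ⟨d, hd, n, hn, hdn⟩ := hyt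
  set π := QuotientGroup.mk' K
  have hninv : ∀ a ∈ (commutator G), π n * π a * (π n)⁻¹ = (π a)⁻¹ := by
    intro a ha
    have hb : n * a * n⁻¹ ∈ (commutator G) := (inferInstance : (commutator G).Normal).conj_mem _ ha n
    have hc : Commute (π d) (π (n * a * n⁻¹)) := by
      rw [← commutatorElement_eq_one_iff_commute, ← map_commutatorElement]
      exact (QuotientGroup.eq_one_iff _).mpr (hS.comm_mem hg hd hb)
    have h1 : π (y * a * y⁻¹) = (π a)⁻¹ := by
      rw [eq_inv_iff_mul_eq_one, ← map_mul]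
      exact (QuotientGroup.eq_one_iff _).mpr (hy a ha)
    rw [← hdn, show d * n * a * (d * n)⁻¹ = d * (n * a * n⁻¹) * d⁻¹ by group, map_mul, map_mul,
      map_inv π d, hc.eq, mul_inv_cancel_right] at h1
    simpa using h1
  obtain ⟨f, k, hk, hfk⟩ := Nat.exists_eq_two_pow_mul_odd (orderOf_pos n).ne'
  set m := n ^ k with hm
  have hminv : ∀ a ∈ (commutator G), π m * π a * (π m)⁻¹ = (π a)⁻¹ := by
    intro a ha
    have h2 : ∀ j : ℕ, π n ^ (2 * j) * π a * (π n ^ (2 * j))⁻¹ = π a := by
      intro j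
      induction j with
      | zero => simp
      | succ j ih =>
        rw [show 2 * (j + 1) = 2 * j + 1 + 1 by omega, pow_succ, pow_succ]
        have h3 := hninv a ha
        have h4 : π n * (π a)⁻¹ * (π n)⁻¹ = π a := by
          rw [← map_inv π a]
          simpa using hninv a⁻¹ (inv_mem ha)
        calc π n ^ (2 * j) * π n * π n * π a * (π n ^ (2 * j) * π n * π n)⁻¹
            = π n ^ (2 * j) * (π n * (π n * π a * (π n)⁻¹) * (π n)⁻¹) * (π n ^ (2 * j))⁻¹ := by
              group
          _ = π a := by rw [h3, h4, ih]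
    obtain ⟨j, rfl⟩ := hk
    rw [hm, map_pow, pow_succ']
    calc π n * π n ^ (2 * j) * π a * (π n * π n ^ (2 * j))⁻¹
        = π n * (π n ^ (2 * j) * π a * (π n ^ (2 * j))⁻¹) * (π n)⁻¹ := by group
      _ = (π a)⁻¹ := by rw [h2, hninv a ha]
  have hmS : m ∈ normalizer (S : Set G) := pow_mem hn k
  let τ : S ≃* S :=
    { toFun := fun s => ⟨m * s * m⁻¹, (mem_normalizer_iff.mp hmS _).mp s.2⟩
      invFun := fun s => ⟨m⁻¹ * s * m, (mem_normalizer_iff.mp hmS _).mpr (by
        simp [mul_assoc])⟩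
      left_inv := fun s => Subtype.ext (show m⁻¹ * (m * s * m⁻¹) * m = s by group)
      right_inv := fun s => Subtype.ext (show m * (m⁻¹ * s * m) * m⁻¹ = s by group)
      map_mul' := fun s t => Subtype.ext (show m * (s * t) * m⁻¹ = m * s * m⁻¹ * (m * t * m⁻¹) by
        group) }
  -- the derived group of `S` is `S ∩ K`
  have hL : ∀ s : S, s ∈ commutator S ↔ (s : G) ∈ K := by
    intro s
    refine ⟨fun hs => ?_, fun hs => ?_⟩
    · have hle : commutator S ≤ K.subgroupOf S := by
        show ⁅(⊤ : Subgroup S), ⊤⁆ ≤ _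
        exact Subgroup.commutator_le.mpr fun a _ b _ => hS.comm_mem hg (hSD a.2) (hSD b.2)
      exact hle hs
    · obtain ⟨t, htS, ht⟩ := hS.sylow_coset hr2 hg P hgS s.2 hs
      have e : s = ⁅(⟨g, hgS⟩ : S)⁻¹, ⟨t, htS⟩⁆ := Subtype.ext (by
        show (s : G) = ⁅g⁻¹, t⁆
        rw [commutatorElement_def, show g⁻¹ * t * g⁻¹⁻¹ * t⁻¹ = g⁻¹ * (t * g * t⁻¹) by group, ht,
          inv_mul_cancel_left])
      rw [e]
      exact commutator_mem_commutator (mem_top _) (mem_top _)
  have hτ : PGroup.Inverted τ := by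
    refine ⟨⟨f, fun s => ?_⟩, fun s => ?_, fun a ha b hb => ?_⟩
    · have hit : ∀ i : ℕ, (((τ : S → S)^[i] s : S) : G) = m ^ i * s * (m ^ i)⁻¹ := by
        intro i
        induction i with
        | zero => simp
        | succ i ih =>
          rw [Function.iterate_succ_apply', pow_succ']
          show m * (((τ : S → S)^[i] s : S) : G) * m⁻¹ = _
          rw [ih]; group
      refine Subtype.ext ?_
      rw [hit, hm, ← pow_mul, mul_comm k, ← hfk, pow_orderOf_eq_one]
      group
    · rw [hL]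
      show m * s * m⁻¹ * s ∈ K
      rw [← QuotientGroup.eq_one_iff, ← QuotientGroup.mk'_apply, map_mul, map_mul, map_mul, map_inv,
        hminv _ (hSD s.2), inv_mul_cancel]
    · rw [hL] at ha hb
      obtain ⟨t, htS, ht⟩ := (hS.move (hSD a.2) ha).sylow_coset hr2
        (hS.pow_mem_of_mem hg (hSD a.2)) P a.2 b.2 hb
      exact ⟨⟨t, htS⟩, Subtype.ext ht⟩
  have hSp : IsPGroup r S := P.2.map _
  haveI : Group.IsNilpotent S := hSp.isNilpotent
  have hodd : Odd (Nat.card S) := by
    obtain ⟨i, hi⟩ := IsPGroup.iff_card.mp hSp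
    rw [hi]
    exact (hr.out.odd_of_ne_two hr2).pow
  obtain ⟨u, hu, hur⟩ := PGroup.exists_pow_eq_one hodd hτ
    (fun s => (hL _).mpr (by
      rw [SubmonoidClass.coe_pow]; exact hS.pow_mem_of_mem hg (hSD s.2)))
    (g := ⟨g, hgS⟩) (fun h => hS.not_mem ((hL _).mp h))
  obtain ⟨c, hc⟩ := isConj_iff.mp ((hS.class_eq (u : G)).mpr ⟨hSD u.2, fun h => hu ((hL u).mpr h)⟩)
  have h1 : (u : G) ^ r = 1 := by simpa using congrArg Subtype.val hur
  rw [← hc, conj_pow] at h1
  exact conj_eq_one_iff.mp h1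

end odd

end Setting

end Cfsg.Agent.Lib.OneNonzero.Setting
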