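import Cfsg.Prelude.Def_Blocks
import Cfsg.Agent.Lib.Characters.Complete
import Cfsg.Agent.Lib.Characters.Kernel
import Cfsg.Agent.Lib.Characters.Linear
import Cfsg.Agent.Lib.OneNonzero.Setting

/-!
# An element seen by one nonlinear character

All nonlinear irreducible characters but `χ` vanish at the noncentral `g`.
-/

set_option autoImplicit false
set_option linter.unusedSectionVars false
set_option linter.style.haveILetI false

namespace Cfsg.Agent.Lib.OneNonzero.Chars

open Subgroup
open scoped commutatorElement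
open Cfsg.Agent.Lib.Characters.Basic Cfsg.Agent.Lib.Characters.Complete
open Cfsg.Agent.Lib.Characters.Kernel
open scoped ComplexConjugate

universe u

variable {G : Type u} [Group G] [Finite G]

open scoped Classical in
/-- Second orthogonality in a quotient, read on the group. -/
theorem quot_orth [Fintype (Cfsg.IrrCharacter G)] (N : Subgroup G) [N.Normal] (a b : G) :
    ∑ ψ ∈ Finset.univ.filter (fun ψ : Cfsg.IrrCharacter G =>
        ∀ n ∈ N, (ψ : G → ℂ) n = (ψ : G → ℂ) 1), (ψ : G → ℂ) a * conj ((ψ : G → ℂ) b) =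
      if IsConj (a : G ⧸ N) (b : G ⧸ N) then
        (Nat.card (centralizer ({(a : G ⧸ N)} : Set (G ⧸ N))) : ℂ) else 0 := by
  haveI := Fintype.ofFinite (Cfsg.IrrCharacter (G ⧸ N))
  rw [Finset.sum_subtype (Finset.univ.filter fun ψ : Cfsg.IrrCharacter G =>
      ∀ n ∈ N, (ψ : G → ℂ) n = (ψ : G → ℂ) 1)
      (p := fun ψ : Cfsg.IrrCharacter G => ∀ n ∈ N, (ψ : G → ℂ) n = (ψ : G → ℂ) 1)
      (fun ψ => by simp) (fun ψ => (ψ : G → ℂ) a * conj ((ψ : G → ℂ) b)),
    ← (inflateEquiv N).sum_comp, ← sum_irr_mul_conj]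
  simp only [inflateEquiv_apply]

theorem linear_iff (ψ : Cfsg.IrrCharacter G) :
    (∀ n ∈ commutator G, (ψ : G → ℂ) n = (ψ : G → ℂ) 1) ↔ (ψ : G → ℂ) 1 = 1 := by
  constructor
  · intro h
    obtain ⟨φ, hφ⟩ := (inflateEquiv (commutator G)).surjective ⟨ψ, h⟩
    have e := inflateEquiv_apply (commutator G) φ 1
    rw [hφ, QuotientGroup.mk_one] at e
    rw [show (ψ : G → ℂ) 1 = _ from e]
    refine Cfsg.Agent.Lib.Characters.Linear.degree_eq_one_of_comm (G := G ⧸ commutator G) ?_ φ
    exact fun a b => (Abelianization.commGroup G).mul_comm a b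
  · intro h1 n hn
    have hker := Abelianization.commutator_subset_ker
      (Cfsg.Agent.Lib.Characters.Linear.degOneHom (isCharacter_irr ψ) h1) hn
    rw [h1, ← Cfsg.Agent.Lib.Characters.Linear.degOneHom_apply (isCharacter_irr ψ) h1,
      MonoidHom.mem_ker.mp hker, Units.val_one]

theorem charDegree_eq_one_iff (ψ : Cfsg.IrrCharacter G) :
    Cfsg.charDegree (ψ : G → ℂ) = 1 ↔ (ψ : G → ℂ) 1 = 1 := by
  obtain ⟨n, hn⟩ := exists_degree (isCharacter_irr ψ)
  simp only [Cfsg.charDegree, hn, Complex.natCast_re, Nat.floor_natCast, Nat.cast_eq_one]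

open scoped Classical in
theorem sum_linear [Fintype (Cfsg.IrrCharacter G)] (a b : G) :
    ∑ ψ ∈ Finset.univ.filter (fun ψ : Cfsg.IrrCharacter G => (ψ : G → ℂ) 1 = 1),
        (ψ : G → ℂ) a * conj ((ψ : G → ℂ) b) =
      if b⁻¹ * a ∈ commutator G then ((commutator G).index : ℂ) else 0 := by
  rw [show Finset.univ.filter (fun ψ : Cfsg.IrrCharacter G => (ψ : G → ℂ) 1 = 1) =
      Finset.univ.filter (fun ψ : Cfsg.IrrCharacter G =>
        ∀ n ∈ commutator G, (ψ : G → ℂ) n = (ψ : G → ℂ) 1) from
      Finset.filter_congr fun ψ _ => (linear_iff ψ).symm, quot_orth]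
  have hiff : IsConj (a : G ⧸ commutator G) (b : G ⧸ commutator G) ↔ b⁻¹ * a ∈ commutator G := by
    rw [← QuotientGroup.eq]
    refine ⟨fun h => ?_, fun h => by rw [h]⟩
    obtain ⟨c, hc⟩ := isConj_iff.mp h
    rw [← hc]
    exact (mul_inv_eq_of_eq_mul ((Abelianization.commGroup G).mul_comm c _))
  refine if_congr hiff ?_ rfl
  have htop : centralizer ({(a : G ⧸ commutator G)} : Set (G ⧸ commutator G)) = ⊤ :=
    eq_top_iff.mpr fun x _ => mem_centralizer_singleton_iff.mpr
      ((Abelianization.commGroup G).mul_comm x _)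
  rw [htop, Subgroup.card_top, Subgroup.index_eq_card]

variable {g : G} {χ : Cfsg.IrrCharacter G}

/-- The hypotheses of S4805. -/
structure Seen (g : G) (χ : Cfsg.IrrCharacter G) : Prop where
  noncentral : g ∉ center G
  nonlinear : (χ : G → ℂ) 1 ≠ 1
  ne_zero : (χ : G → ℂ) g ≠ 0
  others : ∀ ψ : Cfsg.IrrCharacter G, (ψ : G → ℂ) 1 ≠ 1 → ψ ≠ χ → (ψ : G → ℂ) g = 0

open scoped Classical in
theorem Seen.eval (hS : Seen g χ) (a : G) :
    (if g⁻¹ * a ∈ commutator G then ((commutator G).index : ℂ) else 0) +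
        (χ : G → ℂ) a * conj ((χ : G → ℂ) g) =
      if IsConj a g then (Nat.card (centralizer ({a} : Set G)) : ℂ) else 0 := by
  haveI := Fintype.ofFinite (Cfsg.IrrCharacter G)
  rw [← sum_irr_mul_conj a g, ← Finset.sum_filter_add_sum_filter_not Finset.univ
    (fun ψ : Cfsg.IrrCharacter G => (ψ : G → ℂ) 1 = 1), sum_linear, add_right_inj,
    Finset.sum_eq_single χ]
  · intro ψ hψ hne
    rw [hS.others ψ (Finset.mem_filter.mp hψ).2 hne, map_zero, mul_zero]
  · exact fun h => absurd (Finset.mem_filter.mpr ⟨Finset.mem_univ χ, hS.nonlinear⟩) h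

variable (hS : Seen g χ)
include hS

theorem one_ne : g ≠ 1 := fun h => hS.noncentral (h ▸ one_mem _)

theorem mem_commutator : g ∈ commutator G ∧
    (χ : G → ℂ) g = -(((commutator G).index : ℂ) / (χ : G → ℂ) 1) := by
  classical
  have h := hS.eval 1
  rw [mul_one, if_neg (fun hc => one_ne hS (isConj_one_right.mp hc))] at h
  obtain ⟨d, hd⟩ := exists_degree (isCharacter_irr χ)
  have hd0 : (d : ℂ) ≠ 0 := hd ▸ apply_one_ne_zero χ
  by_cases hg : g ∈ commutator G
  · refine ⟨hg, ?_⟩
    rw [if_pos (inv_mem hg), hd] at h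
    have h2 : conj ((χ : G → ℂ) g) = -(((commutator G).index : ℂ) / d) := by
      field_simp
      linear_combination h
    have h3 := congrArg conj h2
    rw [Complex.conj_conj, map_neg, map_div₀, map_natCast, map_natCast, ← hd] at h3
    exact h3
  · rw [if_neg (fun h => hg (inv_mem_iff.mp h)), zero_add, hd, mul_eq_zero] at h
    exact absurd ((map_eq_zero _).mp (h.resolve_left hd0)) hS.ne_zero

theorem conj_value : conj ((χ : G → ℂ) g) = -(((commutator G).index : ℂ) / (χ : G → ℂ) 1) := by
  obtain ⟨d, hd⟩ := exists_degree (isCharacter_irr χ)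
  rw [(mem_commutator hS).2, hd, map_neg, map_div₀, map_natCast, map_natCast]

theorem index_ne_zero : ((commutator G).index : ℂ) ≠ 0 :=
  Nat.cast_ne_zero.mpr Subgroup.index_ne_zero_of_finite

theorem value_of_not_conj {a : G} (ha : ¬ IsConj a g) :
    (a ∈ commutator G → (χ : G → ℂ) a = (χ : G → ℂ) 1) ∧
      (a ∉ commutator G → (χ : G → ℂ) a = 0) := by
  classical
  have h := hS.eval a
  have hd := apply_one_ne_zero χ
  have hm := index_ne_zero hS
  rw [if_neg ha, conj_value hS] at h
  have hg := (mem_commutator hS).1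
  refine ⟨fun haD => ?_, fun haD => ?_⟩
  · rw [if_pos (mul_mem (inv_mem hg) haD)] at h
    field_simp at h
    have h2 : ((commutator G).index : ℂ) * ((χ : G → ℂ) 1 - (χ : G → ℂ) a) = 0 := by
      linear_combination h
    exact (sub_eq_zero.mp ((mul_eq_zero.mp h2).resolve_left hm)).symm
  · rw [if_neg (fun h => haD (by simpa using mul_mem hg h)), zero_add, mul_eq_zero] at h
    refine h.resolve_right ?_
    rw [neg_eq_zero, div_eq_zero_iff]
    exact fun h => h.elim hm hd

theorem value_ne_degree : (χ : G → ℂ) g ≠ (χ : G → ℂ) 1 := by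
  obtain ⟨d, hd⟩ := exists_degree (isCharacter_irr χ)
  have hd0 : (d : ℂ) ≠ 0 := hd ▸ apply_one_ne_zero χ
  rw [(mem_commutator hS).2, hd, Ne, neg_eq_iff_eq_neg, div_eq_iff hd0]
  intro h
  have h2 : ((commutator G).index + d * d : ℕ) = (0 : ℕ) := by
    exact_mod_cast (show (((commutator G).index : ℂ) + d * d) = 0 by linear_combination h)
  exact Subgroup.index_ne_zero_of_finite (Nat.eq_zero_of_add_eq_zero_right h2)

theorem class_iff (x : G) :
    IsConj g x ↔ x ∈ commutator G ∧ (χ : G → ℂ) x ≠ (χ : G → ℂ) 1 := by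
  refine ⟨fun h => ⟨?_, ?_⟩, fun h => ?_⟩
  · obtain ⟨c, rfl⟩ := isConj_iff.mp h
    exact (inferInstance : (commutator G).Normal).conj_mem _ (mem_commutator hS).1 c
  · rw [← classFunction_apply_of_isConj (isClassFunction_irr χ) h]
    exact value_ne_degree hS
  · by_contra hne
    exact h.2 ((value_of_not_conj hS fun h' => hne h'.symm).1 h.1)

theorem ker_le {x : G} (hx : (χ : G → ℂ) x = (χ : G → ℂ) 1) : x ∈ commutator G := by
  by_contra hxD
  have hne : ¬ IsConj x g := fun h => hxD ((class_iff hS x).mp h.symm).1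
  exact apply_one_ne_zero χ (hx ▸ (value_of_not_conj hS hne).2 hxD)

theorem vanish_off {x : G} (hx : x ∉ commutator G) : (χ : G → ℂ) x = 0 :=
  (value_of_not_conj hS fun h => hx ((class_iff hS x).mp h.symm).1).2 hx

/-- The only nonlinear character trivial on the kernel. -/
theorem unique {ψ : Cfsg.IrrCharacter G} (h1 : (ψ : G → ℂ) 1 ≠ 1)
    (hker : ∀ x : G, (χ : G → ℂ) x = (χ : G → ℂ) 1 → (ψ : G → ℂ) x = (ψ : G → ℂ) 1) : ψ = χ := by
  classical
  haveI := Fintype.ofFinite G
  haveI := Fintype.ofFinite (Cfsg.IrrCharacter G)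
  by_contra hne
  have hg0 := hS.others ψ h1 hne
  obtain ⟨d, hd⟩ := exists_degree (isCharacter_irr ψ)
  have hval : ∀ x ∈ commutator G, (ψ : G → ℂ) x =
      if (χ : G → ℂ) x = (χ : G → ℂ) 1 then (d : ℂ) else 0 := by
    intro x hx
    split_ifs with h
    · rw [hker x h, hd]
    · rw [← classFunction_apply_of_isConj (isClassFunction_irr ψ) ((class_iff hS x).mpr ⟨hx, h⟩),
        hg0]
  -- the sum over the derived group
  have hs : ∑ x ∈ Finset.univ.filter (fun x : G => x ∈ commutator G), (ψ : G → ℂ) x = 0 := by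
    have h : ∀ x : G, (if x ∈ commutator G then ((commutator G).index : ℂ) else 0) =
        ∑ lam ∈ Finset.univ.filter (fun lam : Cfsg.IrrCharacter G => (lam : G → ℂ) 1 = 1),
          conj ((lam : G → ℂ) x) := by
      intro x
      have h := sum_linear 1 x
      rw [mul_one] at h
      rw [if_congr inv_mem_iff.symm rfl rfl, ← h]
      exact Finset.sum_congr rfl fun lam hlam => by rw [(Finset.mem_filter.mp hlam).2, one_mul]
    have h2 : ∑ x : G, (ψ : G → ℂ) x *
        (if x ∈ commutator G then ((commutator G).index : ℂ) else 0) = 0 := by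
      simp only [h, Finset.mul_sum]
      rw [Finset.sum_comm]
      refine Finset.sum_eq_zero fun lam hlam => ?_
      have hne' : ψ ≠ lam := fun e => h1 (by rw [e]; exact (Finset.mem_filter.mp hlam).2)
      have := classInner_irr_of_ne hne'
      rw [Cfsg.classInner, mul_eq_zero, inv_eq_zero, Nat.cast_eq_zero] at this
      exact this.resolve_left Nat.card_pos.ne'
    simp only [mul_ite, mul_zero, ← Finset.sum_filter, ← Finset.sum_mul] at h2
    exact (mul_eq_zero.mp h2).resolve_right (index_ne_zero hS)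
  rw [Finset.sum_congr rfl (fun x hx => hval x (Finset.mem_filter.mp hx).2), ← Finset.sum_filter,
    Finset.sum_const, nsmul_eq_mul, mul_eq_zero] at hs
  rcases hs with h | h
  · rw [Nat.cast_eq_zero, Finset.card_eq_zero] at h
    have h3 : (1 : G) ∈ (Finset.univ.filter (fun x : G => x ∈ commutator G)).filter
        (fun x => (χ : G → ℂ) x = (χ : G → ℂ) 1) := by simp
    rw [h] at h3
    simp at h3
  · exact apply_one_ne_zero ψ (hd ▸ h)

/-- The centre of `G / ker χ` lies in the derived group. -/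
theorem center_le {z : G} (hz : ∀ u : G, ⁅z, u⁆ ∈ charKer (isCharacter_irr χ)) :
    z ∈ commutator G := by
  classical
  haveI := Fintype.ofFinite (Cfsg.IrrCharacter G)
  set K := charKer (isCharacter_irr χ)
  haveI : K.Normal := charKer_normal _
  have hset : Finset.univ.filter (fun ψ : Cfsg.IrrCharacter G =>
      ∀ n ∈ K, (ψ : G → ℂ) n = (ψ : G → ℂ) 1) =
      insert χ (Finset.univ.filter fun ψ : Cfsg.IrrCharacter G => (ψ : G → ℂ) 1 = 1) := by
    ext ψ
    simp only [Finset.mem_filter, Finset.mem_univ, true_and, Finset.mem_insert]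
    refine ⟨fun h => ?_, ?_⟩
    · by_cases h1 : (ψ : G → ℂ) 1 = 1
      · exact Or.inr h1
      · exact Or.inl (unique hS h1 fun x hx => h x hx)
    · rintro (rfl | h) n hn
      · exact hn
      · exact (linear_iff ψ).mpr h n (ker_le hS hn)
  have hχ : χ ∉ Finset.univ.filter fun ψ : Cfsg.IrrCharacter G => (ψ : G → ℂ) 1 = 1 :=
    fun h => hS.nonlinear (Finset.mem_filter.mp h).2
  have key : ∀ a : G, (∀ u : G, ⁅a, u⁆ ∈ K) →
      (χ : G → ℂ) a * conj ((χ : G → ℂ) a) + ((commutator G).index : ℂ) =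
        (Nat.card (G ⧸ K) : ℂ) := by
    intro a ha
    have htop : centralizer ({(a : G ⧸ K)} : Set (G ⧸ K)) = ⊤ := by
      refine eq_top_iff.mpr fun x _ => mem_centralizer_singleton_iff.mpr ?_
      obtain ⟨x, rfl⟩ := QuotientGroup.mk'_surjective K x
      refine ((commutatorElement_eq_one_iff_commute (g₁ := QuotientGroup.mk' K a)).mp ?_).eq.symm
      rw [← map_commutatorElement]
      exact (QuotientGroup.eq_one_iff _).mpr (ha x)
    have h := quot_orth K a a
    rw [if_pos (IsConj.refl _), hset, Finset.sum_insert hχ, sum_linear,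
      if_pos (by rw [inv_mul_cancel]; exact one_mem _), htop, Subgroup.card_top] at h
    exact h
  by_contra hzD
  have h1 := key z hz
  rw [← key 1 (fun u => by rw [commutatorElement_one_left]; exact one_mem K), vanish_off hS hzD,
    zero_mul, add_left_inj, eq_comm, mul_eq_zero] at h1
  exact apply_one_ne_zero χ (h1.elim id fun h => (map_eq_zero _).mp h)

theorem setting : Setting.Setting (charKer (isCharacter_irr χ)) g :=
  ⟨charKer_normal _, fun _ hx => ker_le hS hx, (mem_commutator hS).1,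
    fun h => value_ne_degree hS h, fun x => class_iff hS x, fun _ hz => center_le hS hz⟩

end Cfsg.Agent.Lib.OneNonzero.Chars
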