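import Mathlib

/-!
# An odd `p`-group inverted modulo its derived group

`T` is a finite group of odd prime power order, `τ` an automorphism of `2`-power order inverting
`T` modulo the derived group `L`, and for every `g` outside `L` the whole coset `g L` is one
conjugacy class.  Then some element outside `L` has order `r`, if the `r`th powers lie in `L`.

With `Z = [L, T]` and `[Z, T] = 1`, inverted representatives `u` show that `z ↦ [l, u]` reaches
all of `Z`, so `T/L` embeds in the dual of `L/Z`; but `t ↦ [u, t]` maps `T/L` onto `L/Z` with `u`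
in the kernel.  Hence `L` is central, and then `τ` fixes and inverts `u ^ r`.
-/

set_option autoImplicit false
set_option linter.unusedSectionVars false
set_option linter.style.haveILetI false

namespace Cfsg.Agent.Lib.OneNonzero.PGroup

open Subgroup
open scoped commutatorElement

universe u

variable {T : Type u} [Group T]

/-- The hypotheses. -/
structure Inverted (τ : T ≃* T) : Prop where
  exists_period : ∃ f : ℕ, ∀ t : T, τ^[2 ^ f] t = t
  inv_mod : ∀ t : T, τ t * t ∈ commutator T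
  coset : ∀ g : T, g ∉ commutator T → ∀ l ∈ commutator T, ∃ s : T, s * g * s⁻¹ = g * l

theorem eq_one_of_sq [Finite T] (hodd : Odd (Nat.card T)) {c : T} {f : ℕ} (h : c ^ 2 ^ f = 1) :
    c = 1 := by
  have h1 : orderOf c ∣ 2 ^ f := orderOf_dvd_of_pow_eq_one h
  have h2 : orderOf c ∣ Nat.card T := orderOf_dvd_natCard c
  have h3 := Nat.dvd_gcd h1 h2
  rw [(Nat.Coprime.pow_left f (Nat.coprime_two_left.mpr hodd)).gcd_eq_one] at h3
  exact orderOf_eq_one_iff.mp (Nat.dvd_one.mp h3)

theorem mul_left_normal {N : Subgroup T} [N.Normal] {a b : T} (h : a * b ∈ N) : b * a ∈ N :=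
  (Subgroup.Normal.mem_comm ‹N.Normal› h)

/-- Modulo a central subgroup the commutator with a fixed element is multiplicative. -/
theorem commutator_mul_right {a s t : T} (h : ∀ x : T, Commute ⁅a, t⁆ x) :
    ⁅a, s * t⁆ = ⁅a, s⁆ * ⁅a, t⁆ := by
  calc ⁅a, s * t⁆ = a * s * a⁻¹ * (⁅a, t⁆ * s⁻¹) := by simp only [commutatorElement_def]; group
    _ = a * s * a⁻¹ * (s⁻¹ * ⁅a, t⁆) := by rw [(h s⁻¹).eq]
    _ = ⁅a, s⁆ * ⁅a, t⁆ := by simp only [commutatorElement_def]; group

theorem commutator_mul_left {a b t : T} (h : ∀ x : T, Commute ⁅b, t⁆ x) :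
    ⁅a * b, t⁆ = ⁅b, t⁆ * ⁅a, t⁆ := by
  calc ⁅a * b, t⁆ = a * ⁅b, t⁆ * (t * a⁻¹ * t⁻¹) := by simp only [commutatorElement_def]; group
    _ = ⁅b, t⁆ * a * (t * a⁻¹ * t⁻¹) := by rw [(h a).eq]
    _ = ⁅b, t⁆ * ⁅a, t⁆ := by simp only [commutatorElement_def]; group

section small

variable [Finite T] (hodd : Odd (Nat.card T)) {τ : T ≃* T} (hτ : Inverted τ)
  (hZ : ⁅⁅commutator T, (⊤ : Subgroup T)⁆, (⊤ : Subgroup T)⁆ = ⊥)

include hZ in
omit [Finite T] in
theorem central {l : T} (hl : l ∈ commutator T) (t x : T) : Commute ⁅l, t⁆ x := by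
  have h : ⁅⁅l, t⁆, x⁆ ∈ (⊥ : Subgroup T) := hZ ▸
    commutator_mem_commutator (commutator_mem_commutator hl (mem_top t)) (mem_top x)
  exact commutatorElement_eq_one_iff_commute.mp (mem_bot.mp h)

include hZ in
omit [Finite T] in
theorem central' {z : T} (hz : z ∈ ⁅commutator T, (⊤ : Subgroup T)⁆) (x : T) : Commute z x := by
  have h : ⁅z, x⁆ ∈ (⊥ : Subgroup T) := hZ ▸ commutator_mem_commutator hz (mem_top x)
  exact commutatorElement_eq_one_iff_commute.mp (mem_bot.mp h)

/-- The pairing with an element of the derived group. -/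
noncomputable def pair {l : T} (hl : l ∈ commutator T) :
    T →* (⁅commutator T, (⊤ : Subgroup T)⁆ : Subgroup T) where
  toFun t := ⟨⁅l, t⁆, commutator_mem_commutator hl (mem_top t)⟩
  map_one' := Subtype.ext (by simp)
  map_mul' s t := Subtype.ext (commutator_mul_right (central hZ hl t))

include hZ in
omit [Finite T] in
theorem pair_of_mem {l k : T} (hl : l ∈ commutator T) (hk : k ∈ commutator T) : ⁅l, k⁆ = 1 := by
  have hker : commutator T ≤ (pair hZ hl).ker := by
    show ⁅(⊤ : Subgroup T), ⊤⁆ ≤ _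
    refine Subgroup.commutator_le.mpr fun a _ b _ => ?_
    rw [MonoidHom.mem_ker, map_commutatorElement, commutatorElement_eq_one_iff_commute]
    exact Subtype.ext (central' hZ (pair hZ hl a).2 _).eq
  simpa [pair] using congrArg Subtype.val (MonoidHom.mem_ker.mp (hker hk))

include hτ in
omit [Finite T] in
theorem map_eq_inv_mul (t : T) : ∃ l ∈ commutator T, τ t = t⁻¹ * l :=
  ⟨t * τ t, mul_left_normal (hτ.inv_mod t), by group⟩

include hτ hZ in
omit [Finite T] in
theorem fixed_mod (l : T) (hl : l ∈ commutator T) :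
    l⁻¹ * τ l ∈ ⁅commutator T, (⊤ : Subgroup T)⁆ := by
  set Z := ⁅commutator T, (⊤ : Subgroup T)⁆
  suffices h : commutator T ≤ ((QuotientGroup.mk' Z).comp τ.toMonoidHom).eqLocus
      (QuotientGroup.mk' Z) by
    exact QuotientGroup.eq.mp (h hl).symm
  show ⁅(⊤ : Subgroup T), ⊤⁆ ≤ _
  refine Subgroup.commutator_le.mpr fun a _ b _ => ?_
  show QuotientGroup.mk' Z (τ ⁅a, b⁆) = QuotientGroup.mk' Z ⁅a, b⁆
  obtain ⟨la, hla, ha⟩ := map_eq_inv_mul hτ a
  obtain ⟨lb, hlb, hb⟩ := map_eq_inv_mul hτ b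
  have hc : ∀ k ∈ commutator T, ∀ x : T ⧸ Z, Commute (QuotientGroup.mk' Z k) x := by
    intro k hk x
    obtain ⟨x, rfl⟩ := QuotientGroup.mk'_surjective Z x
    rw [← commutatorElement_eq_one_iff_commute, ← map_commutatorElement]
    exact (QuotientGroup.eq_one_iff _).mpr (commutator_mem_commutator hk (mem_top x))
  have hab : ∀ x y : T, ∀ z : T ⧸ Z,
      Commute ⁅QuotientGroup.mk' Z x, QuotientGroup.mk' Z y⁆ z := fun x y z => by
    rw [← map_commutatorElement]
    exact hc _ (commutator_mem_commutator (mem_top x) (mem_top y)) z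
  rw [map_commutatorElement, map_commutatorElement, map_commutatorElement, ha, hb, map_mul,
    map_mul, map_inv, map_inv]
  set A := QuotientGroup.mk' Z a with hA
  set B := QuotientGroup.mk' Z b with hB
  have e1 : ⁅A⁻¹ * QuotientGroup.mk' Z la, B⁻¹ * QuotientGroup.mk' Z lb⁆ = ⁅A⁻¹, B⁻¹⁆ := by
    simp only [commutatorElement_def]
    have h1 := hc la hla
    have h2 := hc lb hlb
    set P := QuotientGroup.mk' Z la
    set Q := QuotientGroup.mk' Z lb
    calc A⁻¹ * P * (B⁻¹ * Q) * (A⁻¹ * P)⁻¹ * (B⁻¹ * Q)⁻¹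
        = A⁻¹ * (P * (B⁻¹ * Q) * P⁻¹) * (A * Q⁻¹ * B) := by group
      _ = A⁻¹ * (B⁻¹ * Q) * (A * Q⁻¹ * B) := by rw [(h1 _).eq, mul_inv_cancel_right]
      _ = A⁻¹ * B⁻¹ * (Q * A * Q⁻¹) * B := by group
      _ = A⁻¹ * B⁻¹ * A * B := by rw [(h2 A).eq, mul_inv_cancel_right]
      _ = _ := by group
  rw [e1]
  calc ⁅A⁻¹, B⁻¹⁆ = A⁻¹ * B⁻¹ * A * B := by rw [commutatorElement_def]; group
    _ = (B * A)⁻¹ * ⁅A, B⁆ * (B * A) := by simp only [commutatorElement_def]; group
    _ = ⁅A, B⁆ := by rw [mul_assoc, (hab a b (B * A)).eq, inv_mul_cancel_left]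

include hτ hZ in
omit [Finite T] in
theorem inverted_of_mem {z : T} (hz : z ∈ ⁅commutator T, (⊤ : Subgroup T)⁆) : τ z = z⁻¹ := by
  let S : Subgroup T :=
    { carrier := {z | z ∈ ⁅commutator T, (⊤ : Subgroup T)⁆ ∧ τ z = z⁻¹}
      one_mem' := ⟨one_mem _, by simp⟩
      mul_mem' := fun {a b} ha hb => ⟨mul_mem ha.1 hb.1, by
        rw [map_mul, ha.2, hb.2, mul_inv_rev]
        exact ((central' hZ ha.1 b).inv_inv).eq⟩
      inv_mem' := fun {a} ha => ⟨inv_mem ha.1, by rw [map_inv, ha.2]⟩ }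
  suffices h : ⁅commutator T, (⊤ : Subgroup T)⁆ ≤ S from (h hz).2
  rw [Subgroup.commutator_le]
  intro l hl t _
  refine ⟨commutator_mem_commutator hl (mem_top t), ?_⟩
  obtain ⟨k, hk, ht⟩ := map_eq_inv_mul hτ t
  have hzf := fixed_mod hτ hZ l hl
  have hlt : τ l = l * (l⁻¹ * τ l) := by group
  have h1 : ⁅τ l, τ t⁆ = ⁅l, τ t⁆ := by
    rw [hlt, commutator_mul_left (fun x => ?_),
      (commutatorElement_eq_one_iff_commute (g₁ := l⁻¹ * τ l)).mpr (central' hZ hzf _), one_mul]
    rw [(commutatorElement_eq_one_iff_commute (g₁ := l⁻¹ * τ l)).mpr (central' hZ hzf _)]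
    exact Commute.one_left x
  rw [map_commutatorElement, h1, ht, commutator_mul_right (central hZ hl k), pair_of_mem hZ hl hk,
    mul_one]
  exact congrArg Subtype.val (map_inv (pair hZ hl) t)

theorem iterate_mul {σ : T →* T} {t c : T} (h : σ t = t * c) (hc : σ c = c) :
    ∀ n : ℕ, σ^[n] t = t * c ^ n
  | 0 => by simp
  | n + 1 => by
    rw [Function.iterate_succ_apply', iterate_mul h hc n, map_mul, map_pow, h, hc, pow_succ',
      mul_assoc]

include hodd hτ hZ in
theorem involutive (t : T) : τ (τ t) = t := by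
  obtain ⟨f, hf⟩ := hτ.exists_period
  set σ : T →* T := τ.toMonoidHom.comp τ.toMonoidHom
  have hσ : ∀ t, σ^[2 ^ f] t = t := by
    intro t
    have e : (σ : T → T)^[2 ^ f] = (τ : T → T)^[2 * 2 ^ f] := by
      rw [Function.iterate_mul]
      rfl
    rw [e, two_mul, Function.iterate_add_apply, hf, hf]
  have key : ∀ t c : T, σ t = t * c → σ c = c → σ t = t := by
    intro t c h hc
    have := hσ t
    rw [iterate_mul h hc] at this
    rw [h, eq_one_of_sq hodd (mul_eq_left.mp this), mul_one]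
  have h3 : ∀ z ∈ ⁅commutator T, (⊤ : Subgroup T)⁆, σ z = z := fun z hz => by
    show τ (τ z) = z
    rw [inverted_of_mem hτ hZ hz, map_inv, inverted_of_mem hτ hZ hz, inv_inv]
  have h2 : ∀ l ∈ commutator T, σ l = l := by
    intro l hl
    set z := l⁻¹ * τ l with hzdef
    have hz : z ∈ ⁅commutator T, (⊤ : Subgroup T)⁆ := fixed_mod hτ hZ l hl
    refine key l (z * z⁻¹) ?_ (by simp)
    show τ (τ l) = l * (z * z⁻¹)
    have e : τ l = l * z := by rw [hzdef]; group
    rw [e, map_mul, inverted_of_mem hτ hZ hz, e, mul_assoc]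
  obtain ⟨a, ha, ht⟩ := map_eq_inv_mul hτ t
  obtain ⟨b, hb, hb'⟩ := map_eq_inv_mul hτ t⁻¹
  have e : σ t = t * (b * τ a) := by
    show τ (τ t) = _
    rw [ht, map_mul, hb', inv_inv, mul_assoc]
  have hm : b * τ a ∈ commutator T := by
    refine mul_mem hb ?_
    exact Subgroup.characteristic_iff_le_comap.mp (inferInstance : (commutator T).Characteristic) τ ha
  exact key t _ e (h2 _ hm)

include hodd hτ hZ in
/-- Every coset of the derived group contains an inverted element. -/
theorem exists_inverted (g : T) : ∃ u : T, τ u = u⁻¹ ∧ g⁻¹ * u ∈ commutator T := by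
  obtain ⟨n, hn⟩ := hodd
  set t := g ^ (n + 1)
  have ht : t * t = g := by
    rw [← pow_add, show n + 1 + (n + 1) = Nat.card T + 1 by omega, pow_succ, pow_card_eq_one',
      one_mul]
  refine ⟨(τ t)⁻¹ * t, ?_, ?_⟩
  · rw [map_mul, map_inv, involutive (hodd := ⟨n, hn⟩) hτ hZ, mul_inv_rev, inv_inv]
  · have e : g⁻¹ * ((τ t)⁻¹ * t) = t⁻¹ * (τ t * t)⁻¹ * t := by rw [← ht]; group
    rw [e]
    simpa using (commutator T).inv_mem (hτ.inv_mod t) |> fun h =>
      (inferInstance : (commutator T).Normal).conj_mem _ h t⁻¹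

include hodd hτ hZ in
/-- For an inverted `u` outside the derived group every element of `[L, T]` is a `[l, u]`. -/
theorem exists_pair {u : T} (hu : τ u = u⁻¹) (huL : u ∉ commutator T) {z : T}
    (hz : z ∈ ⁅commutator T, (⊤ : Subgroup T)⁆) : ∃ l ∈ commutator T, ⁅l, u⁆ = z := by
  have hzL : z ∈ commutator T :=
    (Subgroup.commutator_mono le_top le_rfl : ⁅commutator T, (⊤ : Subgroup T)⁆ ≤ ⁅⊤, ⊤⁆) hz
  obtain ⟨s, hs⟩ := hτ.coset u huL z hzL
  obtain ⟨i, hi, hsi⟩ := exists_inverted hodd hτ hZ s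
  set l := i⁻¹ * s with hldef
  have hl : l ∈ commutator T := by
    rw [hldef, ← inv_mem_iff, mul_inv_rev, inv_inv]
    exact hsi
  refine ⟨l, hl, ?_⟩
  set c := z * ⁅l, u⁆⁻¹ with hcdef
  have hc : c ∈ ⁅commutator T, (⊤ : Subgroup T)⁆ :=
    mul_mem hz (inv_mem (commutator_mem_commutator hl (mem_top u)))
  have he : i * u * i⁻¹ = u * c := by
    have h1 : s * u * s⁻¹ = i * u * i⁻¹ * ⁅l, u⁆ := by
      calc s * u * s⁻¹ = i * (⁅l, u⁆ * u) * i⁻¹ := by
            rw [hldef]; simp only [commutatorElement_def]; group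
        _ = i * u * (⁅l, u⁆ * i⁻¹) := by rw [(central hZ hl u u).eq]; group
        _ = _ := by rw [(central hZ hl u i⁻¹).eq]; group
    rw [hs] at h1
    rw [hcdef, ← mul_assoc u, h1, mul_inv_cancel_right]
  have h2 := congrArg τ he
  simp only [map_mul, map_inv, hi, hu, inv_inv, inverted_of_mem hτ hZ hc] at h2
  have h3 : c * c = 1 := by
    have h4 : u⁻¹ = i * (u⁻¹ * c⁻¹) * i⁻¹ := by rw [← h2]; group
    rw [← mul_assoc, mul_assoc (i * u⁻¹), ((central' hZ hc i⁻¹).inv_left).eq, ← mul_assoc] at h4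
    have h5 : i * u⁻¹ * i⁻¹ = c⁻¹ * u⁻¹ := by
      rw [show i * u⁻¹ * i⁻¹ = (i * u * i⁻¹)⁻¹ by group, he, mul_inv_rev]
    rw [h5, mul_assoc c⁻¹, ← ((central' hZ hc u⁻¹).inv_left).eq] at h4
    have h6 : u⁻¹ = (c * c)⁻¹ * u⁻¹ := by rw [mul_inv_rev, mul_assoc]; exact h4
    exact inv_eq_one.mp (mul_eq_right.mp h6.symm)
  have h7 : c = 1 := eq_one_of_sq hodd (f := 1) (by rw [pow_one, pow_two, h3])
  rw [hcdef, mul_inv_eq_one] at h7
  exact h7.symm

include hodd hτ hZ in
/-- The derived group is central. -/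
theorem step : ⁅commutator T, (⊤ : Subgroup T)⁆ = ⊥ := by
  classical
  set L := commutator T
  set Z := ⁅L, (⊤ : Subgroup T)⁆ with hZdef
  by_contra hne
  haveI := (nontrivial_iff_ne_bot Z).mpr hne
  obtain ⟨⟨z₀, hz₀⟩, hz₀1⟩ := exists_ne (1 : Z)
  have hZc : ∀ a b : Z, a * b = b * a := fun a b => Subtype.ext (central' hZ a.2 b.1).eq
  letI : CommGroup Z := { (inferInstance : Group Z) with mul_comm := hZc }
  obtain ⟨φ, hφ⟩ := CommGroup.exists_apply_ne_one_of_hasEnoughRootsOfUnity Z ℂ hz₀1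
  have hLbar : (∀ a : T ⧸ Z, ∀ k ∈ L, Commute (QuotientGroup.mk' Z k) a) := by
    intro a k hk
    obtain ⟨a, rfl⟩ := QuotientGroup.mk'_surjective Z a
    rw [← commutatorElement_eq_one_iff_commute, ← map_commutatorElement]
    exact (QuotientGroup.eq_one_iff _).mpr (commutator_mem_commutator hk (mem_top a))
  set W := L.map (QuotientGroup.mk' Z)
  have hWc : ∀ a b : W, a * b = b * a := by
    rintro ⟨_, a, ha, rfl⟩ ⟨_, b, hb, rfl⟩
    exact Subtype.ext (hLbar _ a ha).eq
  letI : CommGroup W := { (inferInstance : Group W) with mul_comm := hWc }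
  -- the pairing, as characters of `L` trivial on `Z`
  let Ψ : T →* (L →* ℂˣ) :=
    { toFun := fun t =>
        { toFun := fun l => φ (pair hZ l.2 t)
          map_one' := by
            rw [show pair hZ (1 : L).2 t = 1 from Subtype.ext (by simp [pair]), map_one]
          map_mul' := fun a b => by
            rw [← map_mul]
            refine congrArg φ (Subtype.ext ?_)
            show ⁅(a : T) * b, t⁆ = ⁅(a : T), t⁆ * ⁅(b : T), t⁆
            rw [commutator_mul_left (central hZ b.2 t)]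
            exact (central hZ b.2 t _).eq }
      map_one' := MonoidHom.ext fun l => by simp
      map_mul' := fun s t => MonoidHom.ext fun l => by simp }
  have hΨL : L ≤ Ψ.ker := fun k hk => MonoidHom.ext fun l => by
    show φ (pair hZ l.2 k) = 1
    rw [show pair hZ l.2 k = 1 from Subtype.ext (pair_of_mem hZ l.2 hk), map_one]
  have hinj : Ψ.ker = L := by
    refine le_antisymm (fun t ht => ?_) hΨL
    by_contra htL
    obtain ⟨u, hu, htu⟩ := exists_inverted hodd hτ hZ t
    have huL : u ∉ L := fun h => htL (by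
      have := mul_mem h (inv_mem htu)
      simpa using this)
    obtain ⟨l, hl, hlu⟩ := exists_pair hodd hτ hZ hu huL hz₀
    have hu1 : Ψ u = 1 := by
      rw [show u = t * (t⁻¹ * u) by group, map_mul, MonoidHom.mem_ker.mp ht,
        MonoidHom.mem_ker.mp (hΨL htu), mul_one]
    apply hφ
    rw [← show pair hZ hl u = ⟨z₀, hz₀⟩ from Subtype.ext hlu]
    exact DFunLike.congr_fun hu1 ⟨l, hl⟩
  let π : L →* W := (QuotientGroup.mk' Z).subgroupMap L
  have hπ : Function.Surjective π := (QuotientGroup.mk' Z).subgroupMap_surjective L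
  haveI : Finite (L →* ℂˣ) := by
    haveI : Finite (Abelianization L →* ℂˣ) := inferInstance
    exact Finite.of_equiv _ (Abelianization.lift (G := L) (A := ℂˣ)).symm
  have hrange : Ψ.range ≤ (MonoidHom.compHom' π : (W →* ℂˣ) →* (L →* ℂˣ)).range := by
    rintro _ ⟨t, rfl⟩
    have hk : π.ker ≤ (Ψ t).ker := fun k hk => by
      have hkZ : (k : T) ∈ Z := (QuotientGroup.eq_one_iff _).mp
        (congrArg Subtype.val (MonoidHom.mem_ker.mp hk))
      show φ (pair hZ k.2 t) = 1
      rw [show pair hZ k.2 t = 1 from Subtype.ext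
        (commutatorElement_eq_one_iff_commute.mpr (central' hZ hkZ t)), map_one]
    exact ⟨π.liftOfSurjective hπ ⟨Ψ t, hk⟩,
      MonoidHom.ext fun k => π.liftOfRightInverse_comp_apply (Function.surjInv hπ)
        (Function.rightInverse_surjInv hπ) ⟨Ψ t, hk⟩ k⟩
  have hle : L.index ≤ Nat.card W := by
    have hi := congrArg Subgroup.index hinj
    rw [Subgroup.index_ker] at hi
    rw [← hi]
    refine le_trans (Subgroup.card_le_of_le hrange) ?_
    rw [← CommGroup.card_monoidHom_of_hasEnoughRootsOfUnity W ℂ]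
    exact Nat.card_le_card_of_surjective _ (MonoidHom.rangeRestrict_surjective _)
  -- the other bound
  obtain ⟨g, hg⟩ : ∃ g : T, g ∉ L := by
    by_contra hall
    push Not at hall
    apply hne
    rw [hZdef, eq_bot_iff, Subgroup.commutator_le]
    intro a ha b _
    exact mem_bot.mpr (pair_of_mem hZ ha (hall b))
  have hcen : ∀ t x : T ⧸ Z, ∀ a : T, t = QuotientGroup.mk' Z a →
      Commute ⁅QuotientGroup.mk' Z g, t⁆ x := by
    rintro t x a rfl
    rw [← map_commutatorElement]
    exact hLbar x _ (commutator_mem_commutator (mem_top g) (mem_top a))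
  let μ : T →* W :=
    { toFun := fun t => ⟨QuotientGroup.mk' Z ⁅g, t⁆,
        mem_map_of_mem _ (commutator_mem_commutator (mem_top g) (mem_top t))⟩
      map_one' := Subtype.ext (by simp)
      map_mul' := fun s t => Subtype.ext (by
        show QuotientGroup.mk' Z ⁅g, s * t⁆ = QuotientGroup.mk' Z ⁅g, s⁆ * QuotientGroup.mk' Z ⁅g, t⁆
        rw [map_commutatorElement, map_commutatorElement, map_commutatorElement, map_mul]
        exact commutator_mul_right (fun x => hcen _ x t rfl)) }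
  have hμ : Function.Surjective μ := by
    rintro ⟨_, k, hk, rfl⟩
    obtain ⟨s, hs⟩ := hτ.coset g hg k hk
    have e : s * g * s⁻¹ * g⁻¹ ∈ L := commutator_mem_commutator (mem_top s) (mem_top g)
    refine ⟨s⁻¹, Subtype.ext ?_⟩
    show QuotientGroup.mk' Z ⁅g, s⁻¹⁆ = QuotientGroup.mk' Z k
    -- `k = g⁻¹ s g s⁻¹` is conjugate to `[g, s⁻¹]`
    have e2 : ⁅g, s⁻¹⁆ = g * s⁻¹ * (g⁻¹ * (s * g * s⁻¹)) * (g * s⁻¹)⁻¹ * 1 := by
      simp only [commutatorElement_def]; group
    rw [e2, hs, mul_one, inv_mul_cancel_left, map_mul, map_mul,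
      ← (hLbar (QuotientGroup.mk' Z (g * s⁻¹)) k hk).eq, mul_assoc, ← map_mul, mul_inv_cancel,
      map_one, mul_one]
  have hker : L < μ.ker := by
    rw [SetLike.lt_iff_le_and_exists]
    refine ⟨fun k hk => MonoidHom.mem_ker.mpr (Subtype.ext ?_), g,
      MonoidHom.mem_ker.mpr (Subtype.ext ?_), hg⟩
    · show QuotientGroup.mk' Z ⁅g, k⁆ = 1
      rw [map_commutatorElement, commutatorElement_eq_one_iff_commute]
      exact (hLbar _ k hk).symm
    · show QuotientGroup.mk' Z ⁅g, g⁆ = 1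
      simp
  have hW : Nat.card W = μ.ker.index := by
    rw [Subgroup.index_ker, MonoidHom.range_eq_top.mpr hμ, Subgroup.card_top]
  exact absurd (hW ▸ hle) (not_le.mpr (Subgroup.index_strictAnti hker))

end small

/-- The derived group is central. -/
theorem commutator_central [Finite T] [Group.IsNilpotent T] (hodd : Odd (Nat.card T)) {τ : T ≃* T}
    (hτ : Inverted τ) : ⁅commutator T, (⊤ : Subgroup T)⁆ = ⊥ := by
  set Z := ⁅commutator T, (⊤ : Subgroup T)⁆ with hZdef
  haveI : Z.Normal := Subgroup.commutator_normal _ _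
  set N := ⁅Z, (⊤ : Subgroup T)⁆ with hN
  haveI : N.Characteristic := Subgroup.commutator_characteristic _ _
  set π := QuotientGroup.mk' N
  have hπ : Function.Surjective π := QuotientGroup.mk'_surjective N
  have hmapL : (commutator T).map π = commutator (T ⧸ N) := by
    rw [_root_.commutator_def, Subgroup.map_commutator, Subgroup.map_top_of_surjective π hπ,
      _root_.commutator_def]
  let e : T ⧸ N ≃* T ⧸ N := QuotientGroup.congr N N τ (Subgroup.characteristic_iff_map_eq.mp ‹_› τ)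
  have he : ∀ t, e (π t) = π (τ t) := fun t => rfl
  have hτ' : Inverted e := by
    refine ⟨?_, ?_, ?_⟩
    · obtain ⟨f, hf⟩ := hτ.exists_period
      refine ⟨f, fun t => ?_⟩
      obtain ⟨t, rfl⟩ := hπ t
      have : ∀ n : ℕ, (e : T ⧸ N → T ⧸ N)^[n] (π t) = π ((τ : T → T)^[n] t) := by
        intro n
        induction n with
        | zero => rfl
        | succ n ih => rw [Function.iterate_succ_apply', ih, he, Function.iterate_succ_apply']
      rw [this, hf]
    · intro t
      obtain ⟨t, rfl⟩ := hπ t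
      rw [he, ← map_mul, ← hmapL]
      exact mem_map_of_mem _ (hτ.inv_mod t)
    · intro g hg l hl
      obtain ⟨g, rfl⟩ := hπ g
      rw [← hmapL] at hg hl
      obtain ⟨l, hl', rfl⟩ := hl
      obtain ⟨s, hs⟩ := hτ.coset g (fun h => hg (mem_map_of_mem _ h)) l hl'
      exact ⟨π s, by rw [← map_inv, ← map_mul, ← map_mul, hs, map_mul]⟩
  have hodd' : Odd (Nat.card (T ⧸ N)) := hodd.of_dvd_nat (Subgroup.card_quotient_dvd_card N)
  have hmapZ : Z.map π = ⁅commutator (T ⧸ N), (⊤ : Subgroup (T ⧸ N))⁆ := by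
    show (⁅commutator T, (⊤ : Subgroup T)⁆).map π = _
    rw [Subgroup.map_commutator, hmapL, Subgroup.map_top_of_surjective π hπ]
  have hstep := step hodd' hτ' (by
    rw [← hmapZ, ← Subgroup.map_top_of_surjective π hπ, ← Subgroup.map_commutator, ← hN,
      QuotientGroup.map_mk'_self])
  rw [← hmapZ, Subgroup.map_eq_bot_iff, QuotientGroup.ker_mk'] at hstep
  -- `Z ≤ [Z, T]` forces `Z = 1`
  obtain ⟨n, hn⟩ := Subgroup.nilpotent_iff_lowerCentralSeries.mp (inferInstance : Group.IsNilpotent T)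
  rw [eq_bot_iff, ← hn]
  clear hn
  induction n with
  | zero => exact le_top
  | succ n ih => exact hstep.trans (Subgroup.commutator_mono ih le_rfl)

/-- Some element outside the derived group has order dividing `r`. -/
theorem exists_pow_eq_one [Finite T] [Group.IsNilpotent T] (hodd : Odd (Nat.card T)) {τ : T ≃* T}
    (hτ : Inverted τ) {r : ℕ} (hr : ∀ t : T, t ^ r ∈ commutator T) {g : T}
    (hg : g ∉ commutator T) : ∃ u : T, u ∉ commutator T ∧ u ^ r = 1 := by
  have hZ : ⁅⁅commutator T, (⊤ : Subgroup T)⁆, (⊤ : Subgroup T)⁆ = ⊥ := by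
    rw [commutator_central hodd hτ, Subgroup.commutator_bot_left]
  obtain ⟨u, hu, hgu⟩ := exists_inverted hodd hτ hZ g
  refine ⟨u, fun h => hg ?_, ?_⟩
  · simpa using mul_mem h (inv_mem hgu)
  have h1 := fixed_mod hτ hZ _ (hr u)
  rw [commutator_central hodd hτ, mem_bot, map_pow, hu, inv_pow, inv_mul_eq_one] at h1
  refine eq_one_of_sq hodd (f := 1) ?_
  rw [pow_one, pow_two]
  nth_rewrite 1 [h1]
  exact inv_mul_cancel _

end Cfsg.Agent.Lib.OneNonzero.PGroup
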