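import Cfsg.Agent.Lib.OneNonzero.Setting
import Cfsg.Agent.Lib.Chars82.PrincipalBlock

/-!
# Solvability in the one class setting

Perfect normal subgroups below `K` are trivial.
-/

set_option autoImplicit false
set_option linter.unusedSectionVars false
set_option linter.style.haveILetI false

namespace Cfsg.Agent.Lib.OneNonzero.Setting

open Subgroup
open scoped commutatorElement
open Cfsg.Agent.Lib.Characters.Basic Cfsg.Agent.Lib.Characters.Complete
open Cfsg.Agent.Lib.Characters.Kernel
open scoped ComplexConjugate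

universe u

variable {G : Type u} [Group G] [Finite G] {K : Subgroup G} [K.Normal] {g : G}

/-- A character with the normal subgroup `R` outside its kernel vanishes at an element whose
centralizer does not grow in `G/R`. -/
theorem apply_eq_zero (R : Subgroup G) [R.Normal] {g : G}
    (hcard : Nat.card (centralizer ({(g : G ⧸ R)} : Set (G ⧸ R))) =
      Nat.card (centralizer ({g} : Set G)))
    (φ : Cfsg.IrrCharacter G) (hφ : ¬ ∀ a ∈ R, (φ : G → ℂ) a = (φ : G → ℂ) 1) :
    (φ : G → ℂ) g = 0 := by
  classical
  haveI := Fintype.ofFinite G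
  haveI := Fintype.ofFinite (Cfsg.IrrCharacter G)
  haveI := Fintype.ofFinite (Cfsg.IrrCharacter (G ⧸ R))
  have h := sum_irr_mul_conj g g
  rw [if_pos (IsConj.refl g), ← Finset.sum_filter_add_sum_filter_not Finset.univ
    (fun ψ : Cfsg.IrrCharacter G => ∀ a ∈ R, (ψ : G → ℂ) a = (ψ : G → ℂ) 1)] at h
  have h1 := sum_irr_mul_conj (g : G ⧸ R) (g : G ⧸ R)
  rw [if_pos (IsConj.refl _), hcard] at h1
  rw [Finset.sum_subtype (Finset.univ.filter fun ψ : Cfsg.IrrCharacter G =>
      ∀ a ∈ R, (ψ : G → ℂ) a = (ψ : G → ℂ) 1) (p := fun ψ : Cfsg.IrrCharacter G => ∀ a ∈ R, (ψ : G → ℂ) a = (ψ : G → ℂ) 1) (fun ψ => by simp)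
      (fun ψ => (ψ : G → ℂ) g * conj ((ψ : G → ℂ) g)),
    ← (inflateEquiv R).sum_comp] at h
  simp only [inflateEquiv_apply] at h
  rw [h1, add_eq_left] at h
  simp only [Complex.mul_conj] at h
  rw [← Complex.ofReal_sum, Complex.ofReal_eq_zero,
    Finset.sum_eq_zero_iff_of_nonneg (fun ψ _ => Complex.normSq_nonneg _)] at h
  exact Complex.normSq_eq_zero.mp (h φ (Finset.mem_filter.mpr ⟨Finset.mem_univ _, hφ⟩))

variable {r : ℕ} [hr : Fact r.Prime]

/-- A perfect normal subgroup below `K` has order prime to `r`. -/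
theorem not_dvd_perfect (hS : Setting K g) (hg : g ^ r ∈ K) (R : Subgroup G) [R.Normal]
    (hRK : R ≤ K) (hperf : ⁅R, R⁆ = R) : ¬ r ∣ Nat.card R := by
  classical
  set H := (centralizer ({(g : G ⧸ R)} : Set (G ⧸ R))).comap (QuotientGroup.mk' R)
  have hRH : R ≤ H := fun a ha => by
    rw [mem_comap, QuotientGroup.mk'_apply, (QuotientGroup.eq_one_iff a).mpr ha]
    exact one_mem _
  have hgH : g ∈ H := mem_centralizer_singleton_iff.mpr rfl
  set R' := R.subgroupOf H
  haveI : R'.Normal := inferInstance
  have hcardHR : Nat.card (H ⧸ R') = Nat.card (centralizer ({(g : G ⧸ R)} : Set (G ⧸ R))) := by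
    refine Nat.eq_of_mul_eq_mul_right (Nat.card_pos (α := R)) ?_
    rw [← Nat.card_congr (Subgroup.subgroupOfEquivOfLe hRH).toEquiv,
      ← Subgroup.card_eq_card_quotient_mul_card_subgroup]
    show _ = _ * Nat.card R'
    rw [Nat.card_congr (Subgroup.subgroupOfEquivOfLe hRH).toEquiv]
    refine (Nat.card_congr (QuotientGroup.preimageMkEquivSubgroupProdSet R
      ((centralizer ({(g : G ⧸ R)} : Set (G ⧸ R)) : Set (G ⧸ R))))).trans ?_
    rw [Nat.card_prod, mul_comm]
    rfl
  obtain ⟨n, hn⟩ := hS.exists_card hg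
  have hCR : Nat.card (centralizer ({(g : G ⧸ R)} : Set (G ⧸ R))) =
      Nat.card (centralizer ({g} : Set G)) := card_centralizer_quotient R g (hS.coset hRK)
  have hHR : Nat.card (H ⧸ R') = r ^ n := by rw [hcardHR, hCR, hn]
  -- the centralizer of `g` in `H`, and of its coset
  have hcentH : Nat.card (centralizer ({(⟨g, hgH⟩ : H)} : Set H)) =
      Nat.card (centralizer ({g} : Set G)) := by
    refine Nat.card_congr
      { toFun := fun c => ⟨(c.1 : G), mem_centralizer_singleton_iff.mpr
          (congrArg Subtype.val (mem_centralizer_singleton_iff.mp c.2))⟩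
        invFun := fun c => ⟨⟨c.1, ?_⟩, mem_centralizer_singleton_iff.mpr
          (Subtype.ext (mem_centralizer_singleton_iff.mp c.2))⟩
        left_inv := fun _ => rfl
        right_inv := fun _ => rfl }
    rw [mem_comap, mem_centralizer_singleton_iff, ← QuotientGroup.mk'_apply, ← map_mul, ← map_mul,
      mem_centralizer_singleton_iff.mp c.2]
  have hHc : Nat.card (centralizer ({((⟨g, hgH⟩ : H) : H ⧸ R')} : Set (H ⧸ R'))) =
      Nat.card (centralizer ({(⟨g, hgH⟩ : H)} : Set H)) := by
    rw [hcentH, hn, ← hHR]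
    have htop : centralizer ({((⟨g, hgH⟩ : H) : H ⧸ R')} : Set (H ⧸ R')) = ⊤ := by
      rw [eq_top_iff]
      rintro x -
      obtain ⟨⟨x, hx⟩, rfl⟩ := QuotientGroup.mk_surjective x
      rw [mem_centralizer_singleton_iff, ← QuotientGroup.mk_mul, ← QuotientGroup.mk_mul,
        QuotientGroup.eq, mem_subgroupOf]
      have h := mem_centralizer_singleton_iff.mp (mem_comap.mp hx)
      rw [← QuotientGroup.mk'_apply, ← map_mul, ← map_mul, QuotientGroup.mk'_apply,
        QuotientGroup.mk'_apply, QuotientGroup.eq] at h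
      simpa using h
    rw [htop, Subgroup.card_top]
  intro hdvd
  by_cases hall : ∀ φ : Cfsg.IrrCharacter H, Cfsg.charDegree (φ : H → ℂ) ≠ 1 →
      r ∣ Cfsg.charDegree (φ : H → ℂ)
  · obtain ⟨N, hN, hNr, k, hk⟩ := Cfsg.Agent.S4456.result r hr.out hall
    -- a perfect group has no nontrivial `r`-quotient
    have hle : R' ≤ N := by
      haveI := hN
      have hpN : IsPGroup r (H ⧸ N) := IsPGroup.of_card (n := k) (by
        rw [← Subgroup.index_eq_card, hk])
      have hperf' : ⁅R', R'⁆ = R' := by
        refine Subgroup.map_injective H.subtype_injective ?_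
        rw [Subgroup.map_commutator, Subgroup.subgroupOf_map_subtype, inf_eq_left.mpr hRH, hperf]
      set W := R'.map (QuotientGroup.mk' N) with hWdef
      have hW : ⁅W, W⁆ = W := by rw [hWdef, ← Subgroup.map_commutator, hperf']
      haveI : Group.IsNilpotent (H ⧸ N) := hpN.isNilpotent
      obtain ⟨c, hc⟩ := Subgroup.nilpotent_iff_lowerCentralSeries.mp ‹Group.IsNilpotent (H ⧸ N)›
      have hWle : ∀ i, W ≤ (⊤ : Subgroup (H ⧸ N)).lowerCentralSeries i := by
        intro i
        induction i with
        | zero => exact le_top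
        | succ i ih =>
          rw [← hW]
          exact Subgroup.commutator_mono ih le_top
      have hWbot := hWle c
      rw [hc, le_bot_iff, hWdef, Subgroup.map_eq_bot_iff, QuotientGroup.ker_mk'] at hWbot
      exact hWbot
    have h1 : Nat.card R' = Nat.card R := Nat.card_congr (Subgroup.subgroupOfEquivOfLe hRH).toEquiv
    exact (Nat.prime_iff.mp hr.out).not_isUnit (Nat.isUnit_iff.mpr (Nat.eq_one_of_dvd_coprimes hNr
      ((h1 ▸ hdvd).trans (Subgroup.card_dvd_of_le hle)) dvd_rfl))
  · push Not at hall
    obtain ⟨φ, hφ1, hφr⟩ := hall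
    have hker : ¬ ∀ a ∈ R', (φ : H → ℂ) a = (φ : H → ℂ) 1 := by
      intro hker
      obtain ⟨φ', hφ'⟩ := (inflateEquiv R').surjective ⟨φ, hker⟩
      have hd : Cfsg.charDegree (φ : H → ℂ) = Cfsg.charDegree (φ' : H ⧸ R' → ℂ) := by
        have e := inflateEquiv_apply R' φ' 1
        rw [hφ', QuotientGroup.mk_one] at e
        simp only [Cfsg.charDegree]
        rw [show (φ : H → ℂ) 1 = _ from e]
      have hdvd2 := Cfsg.Agent.Lib.Chars82.PrincipalBlock.degree_dvd_card φ'
      rw [hHR, ← hd] at hdvd2
      obtain ⟨i, -, hi⟩ := (Nat.dvd_prime_pow hr.out).mp hdvd2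
      rcases Nat.eq_zero_or_pos i with rfl | hpos
      · exact hφ1 (by rw [hi, pow_zero])
      · exact hφr (hi ▸ dvd_pow_self r hpos.ne')
    refine hφr (Cfsg.Agent.S4558.result r (φ : H → ℂ) (isCharacter_irr φ) ⟨g, hgH⟩ ?_
      (apply_eq_zero R' hHc φ hker))
    obtain ⟨j, hj⟩ := hS.exists_order hg
    exact ⟨j, by rw [orderOf_mk, hj]⟩

/-- Perfect normal subgroups below `K` are trivial. -/
theorem perfect_eq_bot (hS : Setting K g) (hg : g ^ r ∈ K) (R : Subgroup G) [hRn : R.Normal]
    (hRK : R ≤ K) (hperf : ⁅R, R⁆ = R) : R = ⊥ := by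
  have hndvd := not_dvd_perfect hS hg R hRK hperf
  suffices hsol : Group.IsSolvable R by
    have hc : commutator R = ⊤ := by
      refine Subgroup.map_injective R.subtype_injective ?_
      rw [Subgroup.map_subtype_commutator, hperf, ← MonoidHom.range_eq_map, Subgroup.range_subtype]
    by_contra hne
    haveI := (nontrivial_iff_ne_bot R).mpr hne
    haveI := hsol
    exact (Group.IsSolvable.commutator_lt_top_of_nontrivial R).ne hc
  by_cases hr2 : r = 2
  · refine Cfsg.Agent.Lib.OddOrder.FeitThompson.isSolvable_of_odd_card ?_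
    rw [Nat.odd_iff]
    subst hr2
    omega
  · have hg1 := hS.pow_eq_one hr2 hg
    let α : R ≃* R := MulAut.conjNormal g
    obtain ⟨n, hn⟩ := hS.exists_card hg
    have hfix : ∀ x : R, α x = x → x = 1 := by
      intro x hx
      have h1 : (x : G) ∈ centralizer ({g} : Set G) := by
        rw [mem_centralizer_singleton_iff]
        have h : g * x * g⁻¹ = x := (MulAut.conjNormal_apply g x).symm.trans (congrArg Subtype.val hx)
        exact (mul_inv_eq_iff_eq_mul.mp h).symm
      have h2 : orderOf x ∣ r ^ n := by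
        rw [← hn, ← Subgroup.orderOf_coe, ← orderOf_mk (x : G) h1]
        exact orderOf_dvd_natCard _
      exact orderOf_eq_one_iff.mp (Nat.eq_one_of_dvd_coprimes
        (((Fact.out : r.Prime).coprime_iff_not_dvd.mpr hndvd).pow_left n) h2 (orderOf_dvd_natCard x))
    have hpow : α ^ r = 1 := by
      show MulAut.conjNormal g ^ r = (1 : MulAut R)
      rw [← map_pow, hg1, map_one]
    by_cases hα : α = 1
    · haveI : Subsingleton R := ⟨fun a b => by
        rw [hfix a (by rw [hα]; rfl), hfix b (by rw [hα]; rfl)]⟩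
      infer_instance
    · have hord : orderOf α = r := orderOf_eq_prime hpow hα
      haveI := Cfsg.Agent.S0033.result α (fun x hx => hfix x hx) r Fact.out hord
      infer_instance

/-- The group is solvable. -/
theorem isSolvable (hS : Setting K g) : Group.IsSolvable G := by
  obtain ⟨r, hr, hg⟩ := hS.exists_prime
  haveI := Fact.mk hr
  have hsub : ∀ (n : ℕ) (R : Subgroup G), Nat.card R ≤ n → R.Normal → R ≤ K →
      Group.IsSolvable R := by
    intro n
    induction n with
    | zero => intro R hR; exact absurd hR (not_le.mpr Nat.card_pos)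
    | succ n ih =>
      intro R hR hn hRK
      haveI := hn
      have hle : ⁅R, R⁆ ≤ R := Subgroup.commutator_le_self R
      by_cases hperf : ⁅R, R⁆ = R
      · haveI : Subsingleton R := by rw [perfect_eq_bot hS hg R hRK hperf]; infer_instance
        infer_instance
      · have hlt : Nat.card (⁅R, R⁆ : Subgroup G) < Nat.card R := by
          refine lt_of_le_of_ne (Subgroup.card_le_of_le hle) fun e => hperf ?_
          exact Subgroup.eq_of_le_of_card_ge hle e.ge
        haveI := ih ⁅R, R⁆ (by omega) inferInstance (hle.trans hRK)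
        haveI : Group.IsSolvable (commutator R) :=
          Group.isSolvable_of_isSolvable_injective
            (f := ((R.subtype.comp (commutator R).subtype).codRestrict ⁅R, R⁆ fun a =>
              (Subgroup.map_subtype_commutator R).le (mem_map_of_mem _ a.2)))
            fun a b h => Subtype.ext (Subtype.ext
              (show ((a : R) : G) = ((b : R) : G) from congrArg (fun x : (⁅R, R⁆ : Subgroup G) => (x : G)) h))
        exact Group.isSolvable_of_ker_le_range (G' := commutator R) (G'' := Abelianization R)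
          (commutator R).subtype Abelianization.of (by rw [Abelianization.ker_of, Subgroup.range_subtype])
  haveI := hsub _ K le_rfl hS.normal le_rfl
  haveI : Group.IsSolvable (G ⧸ K) := by
    let π := QuotientGroup.mk' K
    set Q := (commutator G).map π
    haveI : Group.IsSolvable Q := Group.isSolvable_of_comm fun a b => by
      obtain ⟨_, a, ha, rfl⟩ := a
      obtain ⟨_, b, hb, rfl⟩ := b
      refine Subtype.ext ((commutatorElement_eq_one_iff_commute).mp ?_)
      show ⁅π a, π b⁆ = 1
      rw [← map_commutatorElement]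
      exact (QuotientGroup.eq_one_iff _).mpr (hS.comm_mem hg ha hb)
    have hQ : Q = commutator (G ⧸ K) := by
      show (commutator G).map π = _
      rw [_root_.commutator_def, Subgroup.map_commutator,
        Subgroup.map_top_of_surjective π (QuotientGroup.mk'_surjective K), _root_.commutator_def]
    haveI : Group.IsSolvable (commutator (G ⧸ K)) := hQ ▸ ‹Group.IsSolvable Q›
    exact Group.isSolvable_of_ker_le_range (G' := commutator (G ⧸ K)) (G'' := Abelianization (G ⧸ K))
      (commutator (G ⧸ K)).subtype Abelianization.of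
      (by rw [Abelianization.ker_of, Subgroup.range_subtype])
  exact Group.isSolvable_of_ker_le_range (G' := K) (G'' := G ⧸ K) K.subtype (QuotientGroup.mk' K)
    (by rw [QuotientGroup.ker_mk', Subgroup.range_subtype])

end Cfsg.Agent.Lib.OneNonzero.Setting
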